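import Cfsg.Agent.Lib.ConwayType.Five.Local
import Cfsg.Agent.Lib.SuzType.ThreeY.Plane

/-!
Groups of Conway type: two planes of minus type, in coordinates.
-/

set_option autoImplicit false
set_option linter.unusedSectionVars false
set_option maxRecDepth 20000
set_option maxHeartbeats 400000
set_option synthInstance.maxSize 2048
set_option synthInstance.maxHeartbeats 200000

namespace CfsgLib.ConwayType.ThreeX

open QuadraticMap Equiv CfsgLib.ConwayType.Five

/-- The rotation of the plane spanned by `u`, `u'`. -/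
def rt (u u' x : V) : V := x + bf x (u + u') • u + bf x u' • u'

theorem rt_map (g : O8) (u u' x : V) : g.1 (rt u u' x) = rt (g.1 u) (g.1 u') (g.1 x) := by
  simp only [rt]
  rw [map_add, map_add, map_smul, map_smul, ← map_add g.1 u u', bf_map, bf_map]

/-- An isometry acting as a rotation on a plane and trivially modulo it is the rotation. -/
theorem eq_rt {g : O8} {u u' : V} (h1 : g.1 u = u') (h2 : g.1 u' = u + u') (hb : bf u u' = 1)
    (hr : ∀ x, ∃ c d : F2, g.1 x = x + c • u + d • u') (x : V) : g.1 x = rt u u' x := by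
  obtain ⟨c, d, e⟩ := hr x
  have hgi : g.1 (u + u') = u := by
    rw [map_add, h1, h2, add_comm u u', ← add_assoc, V_add_self, zero_add]
  have e1 : bf (g.1 x) u' = bf x u := by
    conv_lhs => rw [← h1]
    exact bf_map g x u
  have e2 : bf (g.1 x) u = bf x (u + u') := by
    conv_lhs => rw [← hgi]
    exact bf_map g x (u + u')
  rw [e, bf_add_left, bf_add_left, bf_smul_left, bf_smul_left, hb, bf_self, mul_one, mul_zero, add_zero] at e1
  rw [e, bf_add_left, bf_add_left, bf_smul_left, bf_smul_left, bf_comm u' u, hb, bf_self, mul_zero, mul_one,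
    add_zero, bf_add_right] at e2
  have hc : c = bf x (u + u') := by
    rw [bf_add_right, ← e1, add_comm (bf x u') c, add_assoc, F2_add_self, add_zero]
  have hd : d = bf x u' := by
    exact add_left_cancel e2
  rw [e, hc, hd, rt]

/-- The first plane. -/
def T0 : V := sv true 0 + sv true 1
/-- The first plane. -/
def T1 : V := sv true 1 + sv true 2
/-- The second plane. -/
def F0 : V := sv false 0 + sv false 1
/-- The second plane. -/
def F1 : V := sv false 1 + sv false 2

theorem plane_facts : qf T0 = 1 ∧ qf T1 = 1 ∧ qf (T0 + T1) = 1 ∧ qf F0 = 1 ∧ qf F1 = 1 ∧ bf T0 T1 = 1 ∧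
    bf F0 F1 = 1 ∧ bf T0 F0 = 0 ∧ bf T0 F1 = 0 ∧ bf T1 F0 = 0 ∧ bf T1 F1 = 0 := by decide +kernel

/-- The three-cycle. -/
def cyc : Perm (Fin 5) := swap 0 1 * swap 1 2

theorem cyc_facts : cyc ^ 3 = 1 ∧ cyc ≠ 1 ∧ Perm.sign cyc = 1 := by decide +kernel

theorem rt_sv : ∀ i : Fin 5, rt T0 T1 (sv true i) = sv true (cyc i) ∧ rt T0 T1 (sv false i) = sv false i ∧
    rt F0 F1 (sv false i) = sv false (cyc i) ∧ rt F0 F1 (sv true i) = sv true i := by decide +kernel

theorem exists_rot : ∃ r : O8, (∀ x, r.1 x = rt T0 T1 x) ∧ r ∈ Om ∧ r ^ 3 = 1 ∧ r ≠ 1 := by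
  obtain ⟨r, r1, r2, r3⟩ := exists_one true cyc
  obtain ⟨c3, c1, cs⟩ := cyc_facts
  have hlin : ∀ x y : V, rt T0 T1 (x + y) = rt T0 T1 x + rt T0 T1 y := fun x y => by
    simp only [rt, bf_add_left, add_smul]; abel
  have hsm : ∀ (a : F2) (x : V), rt T0 T1 (a • x) = a • rt T0 T1 x := fun a x => by
    rcases F2_cases a with rfl | rfl
    · simp [rt]
    · simp
  refine ⟨r, fun x => ?_, r3.mpr cs, ?_, fun e => c1 ?_⟩
  · conv_lhs => rw [sv_expand x]
    conv_rhs => rw [sv_expand x]
    simp only [map_add, map_smul, hlin, hsm, r1, show ∀ i, r.1 (sv false i) = sv false i from r2,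
      (rt_sv _).1, (rt_sv _).2.1]
  · obtain ⟨p1, e1⟩ := prm_eq r1
    obtain ⟨p2, e2⟩ := prm_fix (k := false) r2
    refine ext_prm (fun k => ?_) (fun k => (prm_one k).1) fun k => ?_
    · cases k
      exacts [(prm_pow p2 3).1, (prm_pow p1 3).1]
    · cases k
      · rw [(prm_pow p2 3).2, e2, one_pow, (prm_one false).2]
      · rw [(prm_pow p1 3).2, e1, c3, (prm_one true).2]
  · rw [← (prm_eq r1).2, e, (prm_one true).2]

/-- The rotation of the first plane. -/
noncomputable def rT : O8 := exists_rot.choose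

theorem rT_apply (x : V) : rT.1 x = rt T0 T1 x := exists_rot.choose_spec.1 x

theorem rT_props : rT ∈ Om ∧ rT ^ 3 = 1 ∧ rT ≠ 1 := exists_rot.choose_spec.2

/-- The embedding of the six-dimensional space. -/
def io : SuzType.V →ₗ[F2] V where
  toFun w := w (.inl (.inl 0)) • sv false 3 + w (.inl (.inr 0)) • sv false 4 + w (.inl (.inl 1)) • sv true 3 +
    w (.inl (.inr 1)) • sv true 4 + w (.inr 0) • F0 + w (.inr 1) • F1
  map_add' u v := by simp only [Pi.add_apply, add_smul]; abel
  map_smul' a v := by simp only [Pi.smul_apply, smul_eq_mul, mul_smul, smul_add, RingHom.id_apply]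

/-- The projection onto the six-dimensional space. -/
def pr : V →ₗ[F2] SuzType.V where
  toFun v := Sum.elim (Sum.elim ![bf v (sv false 4), bf v (sv true 4)] ![bf v (sv false 3), bf v (sv true 3)])
    ![bf v F1, bf v F0]
  map_add' u v := funext fun i => by
    rcases i with (i | i) | i <;> fin_cases i <;> simp [bf_add_left]
  map_smul' a v := funext fun i => by
    rcases i with (i | i) | i <;> fin_cases i <;> simp [bf_smul_left]

theorem io_facts : ∀ w : SuzType.V, pr (io w) = w ∧ qf (io w) = SuzType.qf w ∧ bf (io w) T0 = 0 ∧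
    bf (io w) T1 = 0 ∧ rt F0 F1 (io w) = io (SuzType.ThreeY.rot SuzType.d0 SuzType.d1 w) := by decide +kernel

theorem io_pr : ∀ v : V, (bf v T0 = 0 ∧ bf v T1 = 0 ↔ io (pr v) = v) ∧
    (rt T0 T1 v = v ↔ bf v T0 = 0 ∧ bf v T1 = 0) ∧
    v + io (pr v) = bf v T1 • T0 + bf v T0 • T1 ∧ qf (v + io (pr v)) + SuzType.qf (pr v) = qf v := by decide +kernel

theorem io_bf (v : V) (w : SuzType.V) : bf v (io w) = SuzType.bf (pr v) w := by
  have h1 := qf_add (v + io (pr v)) (io (pr v))
  have h2 : v + io (pr v) + io (pr v) = v := by rw [add_assoc, V_add_self, add_zero]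
  have hT : bf (v + io (pr v)) (io w) = 0 := by
    rw [(io_pr v).2.2.1, bf_add_left, bf_smul_left, bf_smul_left, bf_comm T0, bf_comm T1, (io_facts w).2.2.1,
      (io_facts w).2.2.2.1, mul_zero, mul_zero, add_zero]
  rw [← h2, bf_add_left, hT, zero_add, h2]
  show polar qf (io (pr v)) (io w) = polar SuzType.qf (pr v) w
  simp only [polar, ← map_add io, (io_facts _).2.1]

theorem pr_T : pr T0 = 0 ∧ pr T1 = 0 ∧ rt T0 T1 T0 = T1 ∧ rt T0 T1 T1 = T0 + T1 ∧
    rt T0 T1 (T0 + T1) = T0 := by decide +kernel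

theorem T_cases : ∀ v : V, bf v (io (pr v)) = 0 → pr v = 0 → qf v = 1 → v = T0 ∨ v = T1 ∨ v = T0 + T1 := by
  decide +kernel

end CfsgLib.ConwayType.ThreeX
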