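import Cfsg.Agent.Lib.ConwayType.ThreeX.Normal
import Cfsg.Agent.Lib.ConwayType.Five.Main

/-!
Groups of Conway type: fusion of the central involution inside the centralizer of the element of order three.
-/

set_option autoImplicit false
set_option linter.unusedSectionVars false
set_option maxRecDepth 20000
set_option maxHeartbeats 400000
set_option synthInstance.maxSize 2048
set_option synthInstance.maxHeartbeats 200000

universe u

namespace CfsgLib.ConwayType.ThreeX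

open QuadraticMap CfsgLargeExtra Equiv CfsgLib.ConwayType CfsgLib.ConwayType.Five
open CfsgLib.HallJankoType (mem_cent conj_fix_iff)

/-- A five-cycle. -/
def five : Perm (Fin 5) := swap 0 1 * swap 1 2 * swap 2 3 * swap 3 4

theorem five_facts : Perm.sign five = 1 ∧ five ^ 5 = 1 ∧ five ≠ 1 := by decide +kernel

theorem five_fixed : ∀ v : V,
    (bf v (sv false 0) • sv false 0 + bf v (sv false 1) • sv false 1 +
    bf v (sv false 2) • sv false 2 + bf v (sv false 3) • sv false 3 + bf v (sv false 4) • sv false 4) +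
    (bf v (sv true 0) • sv true (five 0) + bf v (sv true 1) • sv true (five 1) +
    bf v (sv true 2) • sv true (five 2) + bf v (sv true 3) • sv true (five 3) +
    bf v (sv true 4) • sv true (five 4)) = v ↔ ∀ i, bf v (sv true i) = 0 := by decide +kernel

theorem three_conj : ∀ τ : Perm (Fin 5), τ ^ 3 = 1 → τ ≠ 1 →
    ∃ σ : Perm (Fin 5), Perm.sign σ = 1 ∧ σ * τ * σ⁻¹ = cyc := by decide +kernel

theorem io_f0 : io (pr (sv false 0)) = sv false 0 ∧ bf (sv false 0) T0 = 0 ∧ bf (sv false 0) T1 = 0 := by decide +kernel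

variable {G : Type u} [Group G] [Finite G] {z a b : G} {Q : Subgroup G} {π : G → V} {M : G → O8}

theorem exists_five (h : ST z Q π M) : ∃ β : G, B5 z β Q π M := by
  obtain ⟨hs, h5, h1⟩ := five_facts
  obtain ⟨c, hc, hp⟩ := Sd_surj h true hs
  have hcz := ((mem_Sd h).mp hc).1
  have hMc5 : M c ^ 5 = 1 := by
    have hpre := Sd_pre h hc
    refine ext_prm (fun k => (prm_pow (hpre k) 5).1) (fun k => (prm_one k).1) fun k => ?_
    rw [(prm_pow (hpre k) 5).2, (prm_one k).2]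
    cases k
    · rw [show prm false (M c) = 1 from Sd_prm_other h hc, one_pow]
    · rw [hp, h5]
  have hQ : c ^ 5 ∈ Q := (h.M_ker _ (Commute.pow_left hcz 5)).mp (by rw [Five.M_pow h hcz, hMc5])
  set β := c ^ 16 with hβ
  have hβz : β * z = z * β := Commute.pow_left hcz 16
  have hβ5 : β ^ 5 = 1 := by
    rw [hβ, ← pow_mul, show 16 * 5 = 5 * (4 * 4) from rfl, pow_mul, pow_mul]
    rw [show (c ^ 5) ^ 4 = 1 from congrArg Subtype.val (h.es.toExt.pow_four ⟨_, hQ⟩), one_pow]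
  have hMβ : M β = M c := by
    rw [hβ, Five.M_pow h hcz]
    generalize hg : M c = g at hMc5 ⊢
    have e : g ^ (5 * 3 + 1) = g := by rw [pow_succ, pow_mul, hMc5, one_pow, one_mul]
    simpa only [Nat.reduceMul, Nat.reduceAdd] using e
  have hne : β ≠ 1 := fun e => h1 (by
    rw [e, h.M_one] at hMβ
    rw [← hp, ← hMβ, (prm_one true).2])
  haveI : Fact (Nat.Prime 5) := ⟨by norm_num⟩
  refine ⟨β, h, hβz, orderOf_eq_prime hβ5 hne, fun q hq => ?_⟩
  have hformula : (M β).1 (π q) = π q ↔ ∀ i, bf (π q) (sv true i) = 0 := by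
    rw [hMβ, ← five_fixed (π q)]
    conv_lhs => lhs; rw [sv_expand (π q)]
    simp only [map_add, map_smul, fun i => (show (M c).1 (sv false i) = sv false i from Sd_fix h hc i),
      fun i => (show (M c).1 (sv true i) = sv true (five i) by rw [prm_spec (Sd_pre h hc true), hp])]
  rw [← hformula]
  exact ⟨fun e => by rw [← h.M_act β hβz q hq, conj_fix_iff.mpr e.symm],
    fun e => (five_cent_lift h hβz hβ5 hq e).symm⟩

namespace X3

variable (T : X3 z a b Q π M)
include T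

theorem Ma_pre : (∀ k, Pre k (M a)) ∧ prm true (M a) = cyc ∧ prm false (M a) = 1 := by
  have e1 : ∀ i, (M a).1 (sv true i) = sv true (cyc i) := fun i => by rw [T.Ma]; exact (rt_sv i).1
  have e2 : ∀ i, (M a).1 (sv false i) = sv false i := fun i => by rw [T.Ma]; exact (rt_sv i).2.1
  exact ⟨fun k => by cases k; exacts [(prm_fix e2).1, (prm_eq e1).1], (prm_eq e1).2, (prm_fix e2).2⟩

theorem a_Sd : a ∈ Sd T.st true := (mem_Sd T.st).mpr ⟨T.az, fun q hq => cent_lift T.st T.az T.a3 hq.1 (by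
  have hfix : ∀ i, bf (π q) (sv true i) = 0 := hq.2
  rw [T.Ma, (io_pr _).2.1]
  exact ⟨by rw [T0, bf_add_right, hfix, hfix, add_zero], by rw [T1, bf_add_right, hfix, hfix, add_zero]⟩)⟩

/-- The central involution has another conjugate in its extraspecial group, inside the centralizer of `a`. -/
theorem fused : ∃ g : G, g * a = a * g ∧ g * z * g⁻¹ ∈ Q ∧ (g * z * g⁻¹) * a = a * (g * z * g⁻¹) ∧
    g * z * g⁻¹ ≠ z := by
  classical
  have h := T.st
  obtain ⟨β, B⟩ := exists_five h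
  obtain ⟨x, hxQ, hxπ⟩ := exists_Qs h false 0
  obtain ⟨g, W⟩ := B.exists_Sw hxQ hxπ
  set C := Subgroup.centralizer ({β} : Set G) with hC
  have hmemC : ∀ c, c ∈ C ↔ c * β = β * c := fun c => mem_cent
  set N := (Subgroup.zpowers β).subgroupOf C with hN
  have hNmem : ∀ c : C, c ∈ N ↔ ∃ i : ℕ, (c : G) = β ^ i := by
    intro c
    rw [hN, Subgroup.mem_subgroupOf, ← mem_powers_iff_mem_zpowers, Submonoid.mem_powers_iff]
    exact ⟨fun ⟨i, h'⟩ => ⟨i, h'.symm⟩, fun ⟨i, h'⟩ => ⟨i, h'.symm⟩⟩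
  haveI : N.Normal := ⟨fun n hn c => by
    obtain ⟨i, hi⟩ := (hNmem n).mp hn
    refine (hNmem _).mpr ⟨i, ?_⟩
    rw [Subgroup.coe_mul, Subgroup.coe_mul, Subgroup.coe_inv, hi]
    exact conj_fix_iff.mpr (Commute.pow_right (show Commute (c : G) β from (hmemC _).mp c.2) i).eq⟩
  have Pj : Five.Proj z β C (QuotientGroup.mk' N) ⟨z, (hmemC z).mpr B.bz.symm⟩ :=
    ⟨hmemC, QuotientGroup.mk'_surjective N, fun c => (QuotientGroup.eq_one_iff c).trans (hNmem c), rfl⟩
  obtain ⟨e⟩ := W.inter_iso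
  -- the part of the swap in the derived group
  obtain ⟨-, hsup, -⟩ := W.split Pj
  obtain ⟨l, hl, k, hk, hlk⟩ := Subgroup.mem_sup_of_normal_right.mp
    (hsup.symm ▸ Subgroup.mem_top (⟨g, W.g_mem Pj⟩ : C))
  obtain ⟨i, hi⟩ := (Pj.ker k).mp hk
  have hg : g = (l : G) * β ^ i := by
    have := congrArg Subtype.val hlk
    rw [Subgroup.coe_mul, hi] at this
    exact this.symm
  have hlz : (l : G) * z * (l : G)⁻¹ = x := by
    have hbi : β ^ i * z * (β ^ i)⁻¹ = z := conj_fix_iff.mpr (Commute.pow_left B.bz i)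
    rw [← W.gz, hg, show (l : G) * β ^ i * z * ((l : G) * β ^ i)⁻¹ = l * (β ^ i * z * (β ^ i)⁻¹) * (l : G)⁻¹ by group,
      hbi]
  -- an element of order three commuting with the derived group
  have hc3 : (⟨cyc, cyc_facts.2.2⟩ : alternatingGroup (Fin 5)) ^ 3 = 1 := Subtype.ext cyc_facts.1
  obtain ⟨a₁, ha₁⟩ := e.surjective ⟨cyc, cyc_facts.2.2⟩
  have ha13 : a₁ ^ 3 = 1 := e.injective (by rw [map_pow, ha₁, hc3, map_one])
  have ha1ne : (a₁ : G) ≠ 1 := fun e0 => cyc_facts.2.1 (by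
    have e1 : a₁ = 1 := Subtype.ext e0
    rw [e1, map_one] at ha₁
    exact (congrArg Subtype.val ha₁).symm)
  have ha3G : (a₁ : G) ^ 3 = 1 := by simpa using congrArg Subtype.val ha13
  have hS₁ : (a₁ : G) ∈ Sd h true := a₁.2.1
  have hcl : (a₁ : G) * l = l * a₁ := by
    have hA : (a₁ : G) ∈ Subgroup.centralizer (((commutator C).map C.subtype : Subgroup G) : Set G) := by
      rw [W.cent_eq Pj]; exact a₁.2
    exact (Subgroup.mem_centralizer_iff.mp hA _ ⟨l, hl, rfl⟩).symm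
  -- carry it to `a`
  have hp1 := Sd_pre h hS₁
  have ha1z := ((mem_Sd h).mp hS₁).1
  have hτ3 : prm true (M (a₁ : G)) ^ 3 = 1 := by
    rw [← (prm_pow (hp1 true) 3).2, ← M_pow h ha1z, ha3G, h.M_one, (prm_one true).2]
  have hτ1 : prm true (M (a₁ : G)) ≠ 1 := fun e0 =>
    ha1ne (eq_one_of_three h ((Sd_ker h hS₁).mp e0).1 ha3G)
  obtain ⟨σ, hσ, hσe⟩ := three_conj _ hτ3 hτ1
  obtain ⟨c, hc, hcσ⟩ := Sd_surj h true hσ
  have hcz := ((mem_Sd h).mp hc).1
  have hcp := Sd_pre h hc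
  have hMe : M (c * (a₁ : G) * c⁻¹) = M a := by
    rw [M_conj h hcz ha1z]
    have h1 := fun k => prm_mul (hcp k) (hp1 k)
    refine ext_prm (fun k => (prm_mul (h1 k).1 (prm_inv (hcp k)).1).1) T.Ma_pre.1 fun k => ?_
    rw [(prm_mul (h1 k).1 (prm_inv (hcp k)).1).2, (h1 k).2, (prm_inv (hcp k)).2]
    cases k
    · rw [show prm false (M c) = 1 from Sd_prm_other h hc,
        show prm false (M (a₁ : G)) = 1 from Sd_prm_other h hS₁, T.Ma_pre.2.2]
      rfl
    · rw [hcσ, hσe, T.Ma_pre.2.1]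
  have hK : ∀ d ∈ Sd h true, d * z = z * d := fun d hd => ((mem_Sd h).mp hd).1
  obtain ⟨q, -, hqS, hqe⟩ := conj_lift h (Sd h true) hK (mul_mem (mul_mem hc hS₁) (inv_mem hc)) T.a_Sd
    (by rw [conj_pow, ha3G, mul_one, mul_inv_cancel]) T.a3 hMe
    (hMe.symm ▸ M_ne_of_three h T.az T.a3 T.a1)
  set d := q * c with hd
  have hdS : d ∈ Sd h true := mul_mem hqS hc
  have hdz := hK d hdS
  have hdx : d * x = x * d := ((mem_Sd h).mp hdS).2 x hxQ
  have hga : d * (l : G) * d⁻¹ * z * (d * (l : G) * d⁻¹)⁻¹ = x := by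
    rw [show d * (l : G) * d⁻¹ * z * (d * (l : G) * d⁻¹)⁻¹ = d * ((l : G) * (d⁻¹ * z * d) * (l : G)⁻¹) * d⁻¹ by group,
      show d⁻¹ * z * d = z by rw [mul_assoc, ← hdz, inv_mul_cancel_left], hlz, conj_fix_iff.mpr hdx]
  refine ⟨d * (l : G) * d⁻¹, ?_, ?_, ?_, ?_⟩
  · have e : d * (a₁ : G) * d⁻¹ = a := by rw [hd, ← hqe]; group
    rw [← e]
    calc d * (l : G) * d⁻¹ * (d * (a₁ : G) * d⁻¹) = d * ((l : G) * a₁) * d⁻¹ := by group
      _ = d * ((a₁ : G) * l) * d⁻¹ := by rw [hcl]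
      _ = _ := by group
  · rw [hga]; exact hxQ.1
  · rw [hga]
    exact (((mem_Sd h).mp T.a_Sd).2 x hxQ).symm
  · rw [hga]; exact W.xne

end X3

end CfsgLib.ConwayType.ThreeX
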