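import Cfsg.Agent.Lib.ConwayType.ThreeX.Coord

/-!
Groups of Conway type: two planes of minus type and the six-dimensional space perpendicular to the first.
-/

set_option autoImplicit false
set_option linter.unusedSectionVars false
set_option maxRecDepth 20000
set_option maxHeartbeats 400000
set_option synthInstance.maxSize 2048
set_option synthInstance.maxHeartbeats 200000

namespace CfsgLib.ConwayType.ThreeX

open QuadraticMap Equiv CfsgLib.ConwayType.Five

theorem fix_perp {v : V} : rT.1 v = v ↔ io (pr v) = v := by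
  rw [rT_apply, (io_pr v).2.1, (io_pr v).1]

theorem io_fix (w : SuzType.V) : rT.1 (io w) = io w := fix_perp.mpr (by rw [(io_facts w).1])

/-- Extension of an isometry of the six-dimensional space. -/
noncomputable def extFun (g : SuzType.O6) : V →ₗ[F2] V :=
  LinearMap.id + io.comp pr + io.comp (g.1.toLinearMap.comp pr)

theorem extFun_apply (g : SuzType.O6) (v : V) : extFun g v = v + io (pr v) + io (g.1 (pr v)) := rfl

theorem pr_extFun (g : SuzType.O6) (v : V) : pr (extFun g v) = g.1 (pr v) := by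
  rw [extFun_apply, map_add, map_add, (io_facts _).1, (io_facts _).1, SuzType.V_add_self, zero_add]

theorem extFun_comp (g k : SuzType.O6) (v : V) : extFun g (extFun k v) = extFun (g * k) v := by
  rw [extFun_apply g, pr_extFun, extFun_apply k, extFun_apply (g * k)]
  show v + io (pr v) + io (k.1 (pr v)) + io (k.1 (pr v)) + io (g.1 (k.1 (pr v))) = _
  rw [add_assoc (v + io (pr v)), V_add_self, add_zero]
  rfl

theorem extFun_one (v : V) : extFun 1 v = v := by
  rw [extFun_apply]
  show v + io (pr v) + io (pr v) = v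
  rw [add_assoc, V_add_self, add_zero]

/-- The isometry extending an isometry of the six-dimensional space. -/
noncomputable def extLin (g : SuzType.O6) : V ≃ₗ[F2] V :=
  LinearEquiv.ofLinearMap (extFun g) (extFun g⁻¹)
    (LinearMap.ext fun v => by rw [LinearMap.comp_apply, extFun_comp, mul_inv_cancel, extFun_one]; rfl)
    (LinearMap.ext fun v => by rw [LinearMap.comp_apply, extFun_comp, inv_mul_cancel, extFun_one]; rfl)

theorem extLin_iso (g : SuzType.O6) (v : V) : qf (extFun g v) = qf v := by
  have hdis : bf (v + io (pr v)) (io (g.1 (pr v))) = 0 := by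
    rw [io_bf, map_add, (io_facts _).1, SuzType.V_add_self]
    exact QuadraticMap.polar_zero_left SuzType.qf _
  rw [extFun_apply, qf_add, hdis, add_zero, (io_facts _).2.1,
    show SuzType.qf (g.1 (pr v)) = SuzType.qf (pr v) from g.2 _, (io_pr v).2.2.2]

/-- The extension as a homomorphism. -/
noncomputable def ext6 : SuzType.O6 →* O8 :=
  MonoidHom.mk' (fun g => ⟨extLin g, fun v => extLin_iso g v⟩) fun g k =>
    Subtype.ext (LinearEquiv.ext fun v => (extFun_comp g k v).symm)

theorem ext6_apply (g : SuzType.O6) (v : V) : (ext6 g).1 v = v + io (pr v) + io (g.1 (pr v)) := rfl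

theorem ext6_io (g : SuzType.O6) (w : SuzType.V) : (ext6 g).1 (io w) = io (g.1 w) := by
  rw [ext6_apply, (io_facts w).1, V_add_self, zero_add]

theorem ext6_T (g : SuzType.O6) : (ext6 g).1 T0 = T0 ∧ (ext6 g).1 T1 = T1 := by
  constructor <;> rw [ext6_apply, show pr _ = 0 from (by first | exact pr_T.1 | exact pr_T.2.1)] <;> simp

theorem ext6_inj : Function.Injective ext6 := fun g k e => Subtype.ext (LinearEquiv.ext fun w => by
  have h := congrArg (fun m : O8 => pr (m.1 (io w))) e
  simp only [ext6_io, (io_facts _).1] at h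
  exact h)

/-- The centralizer of the rotation. -/
noncomputable def Cr : Subgroup O8 := Subgroup.centralizer ({rT} : Set O8)

theorem mem_Cr {g : O8} : g ∈ Cr ↔ g * rT = rT * g := Subgroup.mem_centralizer_singleton_iff

theorem ext6_Cr (g : SuzType.O6) : ext6 g ∈ Cr := by
  refine mem_Cr.mpr (Subtype.ext (LinearEquiv.ext fun v => ?_))
  show (ext6 g).1 (rT.1 v) = rT.1 ((ext6 g).1 v)
  rw [rT_apply, rT_apply, rt_map (ext6 g), (ext6_T g).1, (ext6_T g).2]

theorem Cr_io {g : O8} (hg : g ∈ Cr) (w : SuzType.V) : io (pr (g.1 (io w))) = g.1 (io w) := by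
  refine fix_perp.mp ?_
  have h := LinearEquiv.congr_fun (congrArg Subtype.val (mem_Cr.mp hg)) (io w)
  show rT.1 (g.1 (io w)) = _
  exact (show g.1 (rT.1 (io w)) = rT.1 (g.1 (io w)) from h).symm.trans (by rw [io_fix])

/-- The restriction to the six-dimensional space. -/
noncomputable def res (g : O8) : SuzType.O6 := by
  classical
  exact if hg : g ∈ Cr then
    ⟨LinearEquiv.ofLinearMap (pr.comp (g.1.toLinearMap.comp io)) (pr.comp ((g⁻¹).1.toLinearMap.comp io))
      (LinearMap.ext fun w => by
        show pr (g.1 (io (pr ((g⁻¹).1 (io w))))) = w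
        rw [Cr_io (inv_mem hg)]
        show pr (g.1 (g.1.symm (io w))) = w
        rw [LinearEquiv.apply_symm_apply, (io_facts w).1])
      (LinearMap.ext fun w => by
        show pr ((g⁻¹).1 (io (pr (g.1 (io w))))) = w
        rw [Cr_io hg]
        show pr (g.1.symm (g.1 (io w))) = w
        rw [LinearEquiv.symm_apply_apply, (io_facts w).1]),
      fun w => by
        show SuzType.qf (pr (g.1 (io w))) = SuzType.qf w
        rw [← (io_facts _).2.1, Cr_io hg, ← (io_facts w).2.1]
        exact g.2 _⟩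
  else 1

theorem io_res {g : O8} (hg : g ∈ Cr) (w : SuzType.V) : io ((res g).1 w) = g.1 (io w) := by
  classical
  rw [res, dif_pos hg]
  exact Cr_io hg w

theorem res_apply {g : O8} (hg : g ∈ Cr) (w : SuzType.V) : (res g).1 w = pr (g.1 (io w)) := by
  rw [← io_res hg, (io_facts _).1]

theorem res_mul {g k : O8} (hg : g ∈ Cr) (hk : k ∈ Cr) : res (g * k) = res g * res k := by
  refine Subtype.ext (LinearEquiv.ext fun w => ?_)
  show _ = (res g).1 ((res k).1 w)
  rw [res_apply (mul_mem hg hk), res_apply hg, io_res hk]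
  rfl

theorem res_one : res 1 = 1 := Subtype.ext (LinearEquiv.ext fun w => by
  rw [res_apply (one_mem _)]
  exact (io_facts w).1)

theorem res_ext6 (g : SuzType.O6) : res (ext6 g) = g := Subtype.ext (LinearEquiv.ext fun w => by
  rw [res_apply (ext6_Cr g), ext6_io, (io_facts _).1])

theorem rT_Cr : rT ∈ Cr := mem_Cr.mpr rfl

theorem res_rT : res rT = 1 := Subtype.ext (LinearEquiv.ext fun w => by
  rw [res_apply rT_Cr, io_fix]
  exact (io_facts w).1)

theorem res_pow : ∀ n : ℕ, res (rT ^ n) = 1
  | 0 => by rw [pow_zero, res_one]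
  | n + 1 => by rw [pow_succ, res_mul (pow_mem rT_Cr n) rT_Cr, res_pow n, res_rT, one_mul]

/-- An element commuting with the rotation is an extension times a power of the rotation. -/
theorem Cr_split {g : O8} (hg : g ∈ Cr) : ∃ i : ℕ, g = ext6 (res g) * rT ^ i := by
  set m := (ext6 (res g))⁻¹ * g with hm
  have hmC : m ∈ Cr := mul_mem (inv_mem (ext6_Cr _)) hg
  have hres : res m = 1 := by
    rw [hm, res_mul (inv_mem (ext6_Cr _)) hg, ← map_inv, res_ext6, inv_mul_cancel]
  have hfix : ∀ w, m.1 (io w) = io w := fun w => by rw [← io_res hmC, hres]; rfl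
  have hcomm : ∀ x, m.1 (rT.1 x) = rT.1 (m.1 x) := fun x =>
    LinearEquiv.congr_fun (congrArg Subtype.val (mem_Cr.mp hmC)) x
  have hpr : pr (m.1 T0) = 0 := by
    funext l
    have h0 : ∀ w, SuzType.bf (pr (m.1 T0)) w = 0 := fun w => by
      rw [← io_bf, ← hfix w, bf_map, io_bf, pr_T.1]
      exact QuadraticMap.polar_zero_left SuzType.qf _
    have key : ∀ u : SuzType.V, (∀ w, SuzType.bf u w = 0) → u = 0 := by
      intro u hu
      exact SuzType.qf_nondeg.1 u hu
    exact congrFun (key _ h0) l
  obtain ⟨i, hi⟩ : ∃ i : ℕ, m.1 T0 = (rT ^ i).1 T0 := by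
    rcases T_cases _ (by rw [hpr, map_zero, bf_zero_right]) hpr ((m.2 T0).trans plane_facts.1) with e | e | e
    · exact ⟨0, by rw [e, pow_zero]; rfl⟩
    · exact ⟨1, by rw [e, pow_one, rT_apply, pr_T.2.2.1]⟩
    · refine ⟨2, ?_⟩
      rw [e, pow_two]
      show _ = rT.1 (rT.1 T0)
      rw [rT_apply T0, pr_T.2.2.1, rT_apply, pr_T.2.2.2.1]
  refine ⟨i, ?_⟩
  rw [← inv_mul_eq_iff_eq_mul, ← hm]
  have hpc : ∀ x, (rT ^ i).1 (rT.1 x) = rT.1 ((rT ^ i).1 x) := fun x =>
    LinearEquiv.congr_fun (congrArg Subtype.val (Commute.pow_self rT i).eq) x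
  have h1 : m.1 T1 = (rT ^ i).1 T1 := by rw [← pr_T.2.2.1, ← rT_apply, hcomm, hi, hpc]
  have h2 : ∀ (n : ℕ) (w : SuzType.V), (rT ^ n).1 (io w) = io w := by
    intro n w
    induction n with
    | zero => rfl
    | succ n ih =>
      rw [pow_succ]
      show (rT ^ n).1 (rT.1 (io w)) = _
      rw [io_fix, ih]
  refine Subtype.ext (LinearEquiv.ext fun v => ?_)
  have hv : v = bf v T1 • T0 + bf v T0 • T1 + io (pr v) := by
    rw [← (io_pr v).2.2.1, add_assoc, V_add_self, add_zero]
  rw [hv]
  simp only [map_add, map_smul, hi, h1, hfix, h2]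

/-- Extensions of the derived group lie in the derived group, and only those. -/
theorem ext6_mem (g : SuzType.O6) : ext6 g ∈ Om ↔ g ∈ SuzType.Om := by
  have hle : ∀ k ∈ SuzType.Om, ext6 k ∈ Om := fun k hk => by
    have hh : (commutator SuzType.O6).map ext6 ≤ Om := by
      rw [map_commutator_eq]
      exact Subgroup.commutator_mono le_top le_top
    exact hh ⟨k, hk, rfl⟩
  refine ⟨fun he => ?_, hle g⟩
  by_contra hg
  have hq : SuzType.qf SuzType.d0 = 1 := by decide +kernel
  have ht := SuzType.tr_not_mem SuzType.d0 hq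
  have hm : SuzType.tr SuzType.d0 hq * g ∈ SuzType.Om :=
    (Subgroup.mul_mem_iff_of_index_two SuzType.index_Om).mpr (iff_of_false ht hg)
  have h1 := hle _ hm
  rw [map_mul, Subgroup.mul_mem_iff_of_index_two index_Om] at h1
  have hq' : qf (io SuzType.d0) = 1 := (io_facts _).2.1.trans hq
  refine tr_not_mem (io SuzType.d0) hq' ?_
  have e : ext6 (SuzType.tr SuzType.d0 hq) = tr (io SuzType.d0) hq' := by
    refine Subtype.ext (LinearEquiv.ext fun v => ?_)
    rw [ext6_apply, SuzType.tr_apply, map_add, map_smul, tr_apply, io_bf, ← add_assoc,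
      add_assoc v (io (pr v)) (io (pr v)), V_add_self, add_zero]
  rw [← e]
  exact h1.mpr he

theorem res_mem {g : O8} (hg : g ∈ Cr) (hO : g ∈ Om) : res g ∈ SuzType.Om := by
  obtain ⟨i, e⟩ := Cr_split hg
  refine (ext6_mem _).mp ?_
  rw [show ext6 (res g) = g * (rT ^ i)⁻¹ from eq_mul_inv_of_mul_eq e.symm]
  exact mul_mem hO (inv_mem (pow_mem rT_props.1 i))

theorem rho_res {g : O8} (hg : g ∈ Cr) (h : ∀ x, g.1 x = rt F0 F1 x) : res g = SuzType.ThreeY.rho := by
  refine Subtype.ext (LinearEquiv.ext fun w => ?_)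
  rw [res_apply hg, h, (io_facts w).2.2.2.2, (io_facts _).1]
  exact (SuzType.ThreeY.rho_apply w).symm

end CfsgLib.ConwayType.ThreeX
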