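import Cfsg.Agent.Lib.ConwayType.ThreeX.Normal

/-!
Groups of Conway type: elements permuting the two commuting elements of order three.
-/

set_option autoImplicit false
set_option linter.unusedSectionVars false
set_option maxRecDepth 20000
set_option maxHeartbeats 400000
set_option synthInstance.maxSize 2048

universe u

namespace CfsgLib.ConwayType.ThreeX

open QuadraticMap Equiv CfsgLib.ConwayType CfsgLib.ConwayType.Five
open CfsgLib.HallJankoType (mem_cent conj_fix_iff)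

/-- The exchange of the two sides. -/
def swV : V →ₗ[F2] V where
  toFun v := ∑ i : Fin 5, (bf v (sv true i) • sv false i + bf v (sv false i) • sv true i)
  map_add' u v := by
    simp only [bf_add_left, add_smul, ← Finset.sum_add_distrib]
    exact Finset.sum_congr rfl fun i _ => by abel
  map_smul' a v := by
    simp only [bf_smul_left, mul_smul, ← smul_add, ← Finset.smul_sum, RingHom.id_apply]

theorem swV_facts : ∀ v : V, qf (swV v) = qf v ∧ swV (swV v) = v := by decide +kernel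

theorem swV_planes : swV T0 = F0 ∧ swV T1 = F1 ∧ swV F0 = T0 ∧ swV F1 = T1 := by decide +kernel

theorem rest_facts : qf (sv true 3 + sv true 4) = 1 ∧ bf F0 (sv true 3 + sv true 4) = 0 ∧
    bf F1 (sv true 3 + sv true 4) = 0 ∧ bf T0 (sv true 3 + sv true 4) = 0 ∧ bf T1 (sv true 3 + sv true 4) = 0 := by
  decide +kernel

theorem exists_swap : ∃ g ∈ Om, g.1 T0 = F0 ∧ g.1 T1 = F1 ∧ g.1 F0 = T0 ∧ g.1 F1 = T1 := by
  obtain ⟨h0, h1, h2, h3⟩ := swV_planes
  let g : O8 := ⟨LinearEquiv.ofLinearMap swV swV (LinearMap.ext fun v => (swV_facts v).2)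
    (LinearMap.ext fun v => (swV_facts v).2), fun v => (swV_facts v).1⟩
  obtain ⟨r0, r1, r2, r3, r4⟩ := rest_facts
  obtain ⟨k, hk, hke⟩ := move_mem (f := ![T0, T1, F0, F1]) (f' := ![F0, F1, T0, T1]) (g := g) (fun i => by
    fin_cases i
    exacts [h0, h1, h2, h3]) r0 (fun i => by
    fin_cases i
    exacts [r1, r2, r3, r4])
  exact ⟨k, hk, hke 0, hke 1, hke 2, hke 3⟩

theorem inv_plane : (∀ x : V, rt T1 T0 (rt T0 T1 x) = x) ∧
    sv true 2 + sv true 1 = T1 ∧ sv true 1 + sv true 0 = T0 := by decide +kernel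

theorem exists_inv : ∃ g ∈ Om, g.1 T0 = T1 ∧ g.1 T1 = T0 ∧ g.1 F0 = F0 ∧ g.1 F1 = F1 := by
  obtain ⟨g, g1, g2, g3⟩ := exists_pair (swap 3 4) (swap 0 2)
  refine ⟨g, g3.mpr ?_, ?_, ?_, ?_, ?_⟩
  · rw [Perm.sign_swap (by decide), Perm.sign_swap (by decide)]
  · rw [T0, map_add, g2, g2]; exact inv_plane.2.1
  · rw [T1, map_add, g2, g2]; exact inv_plane.2.2
  · rw [F0, map_add, g1, g1]; rfl
  · rw [F1, map_add, g1, g1]; rfl

variable {G : Type u} [Group G] [Finite G] {z a b : G} {Q : Subgroup G} {π : G → V} {M : G → O8}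

theorem M_conj_rt (h : ST z Q π M) {c x : G} (hc : c * z = z * c) (hx : x * z = z * x) {u u' : V}
    (e : ∀ v, (M x).1 v = rt u u' v) (v : V) : (M (c * x * c⁻¹)).1 v = rt ((M c).1 u) ((M c).1 u') v := by
  rw [M_conj h hc hx]
  show (M c).1 ((M x).1 ((M c).1.symm v)) = _
  rw [e, rt_map, LinearEquiv.apply_symm_apply]

theorem ext_fun {g k : O8} (h : ∀ v, g.1 v = k.1 v) : g = k := Subtype.ext (LinearEquiv.ext h)

namespace X3

variable (T : X3 z a b Q π M)
include T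

theorem Ma_ne : M a ≠ 1 := M_ne_of_three T.st T.az T.a3 T.a1

theorem Mb_ne : M b ≠ 1 := M_ne_of_three T.st T.bz T.b3 T.b1

theorem Ma_eq : M a = rT := ext_fun fun v => (T.Ma v).trans (rT_apply v).symm

theorem Ma_inv (v : V) : (M a⁻¹).1 v = rt T1 T0 v := by
  rw [T.st.M_inv T.az]
  show (M a).1.symm v = _
  obtain ⟨w, rfl⟩ := (M a).1.surjective v
  rw [LinearEquiv.symm_apply_apply, T.Ma, inv_plane.1]

/-- An element exchanging the two. -/
theorem exists_n : ∃ n : G, n * a * n⁻¹ = b ∧ n * b * n⁻¹ = a := by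
  obtain ⟨g, hg, h0, h1, h2, h3⟩ := exists_swap
  obtain ⟨c, hc, hM⟩ := T.st.M_surj g hg
  have hK : ∀ d ∈ Subgroup.centralizer ({z} : Set G), d * z = z * d := fun d hd => mem_cent.mp hd
  have hcz : ∀ {x : G}, x * z = z * x → c * x * c⁻¹ * z = z * (c * x * c⁻¹) := fun hx =>
    Commute.mul_left (Commute.mul_left hc hx) (Commute.inv_left hc)
  have eA : M (c * a * c⁻¹) = M b := ext_fun fun v => by rw [M_conj_rt T.st hc T.az T.Ma, hM, h0, h1, T.Mb]
  have eB : M (c * b * c⁻¹) = M a := ext_fun fun v => by rw [M_conj_rt T.st hc T.bz T.Mb, hM, h2, h3, T.Ma]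
  obtain ⟨q, hq, -, hqe⟩ := conj_lift T.st _ hK (mem_cent.mpr (hcz T.az)) (mem_cent.mpr T.bz)
    (by rw [conj_pow, T.a3, mul_one, mul_inv_cancel]) T.b3 eA (eA ▸ T.Mb_ne)
  have hqz := T.st.es.comm q hq
  set b' := q * (c * b * c⁻¹) * q⁻¹ with hb'
  have hb'z : b' * z = z * b' := Commute.mul_left (Commute.mul_left hqz (hcz T.bz)) (Commute.inv_left hqz)
  have hb'b : b' * b = b * b' := by
    have e : Commute (q * c * b * (q * c)⁻¹) (q * c * a * (q * c)⁻¹) := by
      show q * c * b * (q * c)⁻¹ * (q * c * a * (q * c)⁻¹) = q * c * a * (q * c)⁻¹ * (q * c * b * (q * c)⁻¹)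
      calc _ = q * c * (b * a) * (q * c)⁻¹ := by group
        _ = q * c * (a * b) * (q * c)⁻¹ := by rw [T.ab]
        _ = _ := by group
    rw [show q * c * b * (q * c)⁻¹ = b' by rw [hb']; group,
      show q * c * a * (q * c)⁻¹ = q * (c * a * c⁻¹) * q⁻¹ by group, hqe] at e
    exact e.eq
  have eB' : M b' = M a := by
    rw [hb', M_conj T.st hqz (hcz T.bz), T.st.M_Q hq, eB, one_mul, inv_one, mul_one]
  obtain ⟨r, hr, hrK, hre⟩ := conj_lift T.st
    (Subgroup.centralizer ({z} : Set G) ⊓ Subgroup.centralizer ({b} : Set G)) (fun d hd => mem_cent.mp hd.1)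
    ⟨mem_cent.mpr hb'z, mem_cent.mpr hb'b⟩ ⟨mem_cent.mpr T.az, mem_cent.mpr T.ab⟩
    (by rw [hb', conj_pow, conj_pow, T.b3]; group) T.a3 eB' (eB' ▸ T.Ma_ne)
  refine ⟨r * (q * c), ?_, ?_⟩
  · rw [show r * (q * c) * a * (r * (q * c))⁻¹ = r * (q * (c * a * c⁻¹) * q⁻¹) * r⁻¹ by group, hqe]
    exact conj_fix_iff.mpr (mem_cent.mp hrK.2)
  · rw [show r * (q * c) * b * (r * (q * c))⁻¹ = r * (q * (c * b * c⁻¹) * q⁻¹) * r⁻¹ by group]
    exact hre

/-- An element inverting the first and centralizing the second. -/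
theorem exists_k : ∃ k : G, k * a * k⁻¹ = a⁻¹ ∧ k * b * k⁻¹ = b := by
  obtain ⟨g, hg, h0, h1, h2, h3⟩ := exists_inv
  obtain ⟨c, hc, hM⟩ := T.st.M_surj g hg
  have hK : ∀ d ∈ Subgroup.centralizer ({z} : Set G), d * z = z * d := fun d hd => mem_cent.mp hd
  have hcz : ∀ {x : G}, x * z = z * x → c * x * c⁻¹ * z = z * (c * x * c⁻¹) := fun hx =>
    Commute.mul_left (Commute.mul_left hc hx) (Commute.inv_left hc)
  have eB : M (c * b * c⁻¹) = M b := ext_fun fun v => by rw [M_conj_rt T.st hc T.bz T.Mb, hM, h2, h3, T.Mb]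
  have eA : M (c * a * c⁻¹) = M a⁻¹ := ext_fun fun v => by rw [M_conj_rt T.st hc T.az T.Ma, hM, h0, h1, T.Ma_inv]
  obtain ⟨q, hq, -, hqe⟩ := conj_lift T.st _ hK (mem_cent.mpr (hcz T.bz)) (mem_cent.mpr T.bz)
    (by rw [conj_pow, T.b3, mul_one, mul_inv_cancel]) T.b3 eB (eB ▸ T.Mb_ne)
  have hqz := T.st.es.comm q hq
  set a' := q * (c * a * c⁻¹) * q⁻¹ with ha'
  have ha'z : a' * z = z * a' := Commute.mul_left (Commute.mul_left hqz (hcz T.az)) (Commute.inv_left hqz)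
  have ha'b : a' * b = b * a' := by
    have e : Commute (q * c * a * (q * c)⁻¹) (q * c * b * (q * c)⁻¹) := by
      show q * c * a * (q * c)⁻¹ * (q * c * b * (q * c)⁻¹) = q * c * b * (q * c)⁻¹ * (q * c * a * (q * c)⁻¹)
      calc _ = q * c * (a * b) * (q * c)⁻¹ := by group
        _ = q * c * (b * a) * (q * c)⁻¹ := by rw [T.ab]
        _ = _ := by group
    rw [show q * c * a * (q * c)⁻¹ = a' by rw [ha']; group,
      show q * c * b * (q * c)⁻¹ = q * (c * b * c⁻¹) * q⁻¹ by group, hqe] at e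
    exact e.eq
  have eA' : M a' = M a⁻¹ := by
    rw [ha', M_conj T.st hqz (hcz T.az), T.st.M_Q hq, eA, one_mul, inv_one, mul_one]
  have hne : M a⁻¹ ≠ 1 := by rw [T.st.M_inv T.az]; exact inv_ne_one.mpr T.Ma_ne
  obtain ⟨r, hr, hrK, hre⟩ := conj_lift T.st
    (Subgroup.centralizer ({z} : Set G) ⊓ Subgroup.centralizer ({b} : Set G)) (fun d hd => mem_cent.mp hd.1)
    ⟨mem_cent.mpr ha'z, mem_cent.mpr ha'b⟩
    ⟨mem_cent.mpr (Commute.inv_left T.az), mem_cent.mpr (Commute.inv_left T.ab)⟩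
    (by rw [ha', conj_pow, conj_pow, T.a3]; group) (by rw [inv_pow, T.a3, inv_one]) eA' (eA' ▸ hne)
  refine ⟨r * (q * c), ?_, ?_⟩
  · rw [show r * (q * c) * a * (r * (q * c))⁻¹ = r * (q * (c * a * c⁻¹) * q⁻¹) * r⁻¹ by group]
    exact hre
  · rw [show r * (q * c) * b * (r * (q * c))⁻¹ = r * (q * (c * b * c⁻¹) * q⁻¹) * r⁻¹ by group, hqe]
    exact conj_fix_iff.mpr (mem_cent.mp hrK.2)

end X3

end CfsgLib.ConwayType.ThreeX
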