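import Cfsg.Agent.Lib.ConwayType.ThreeX.Fuse
import Cfsg.Agent.Lib.ConwayType.ThreeX.Moves
import Cfsg.Agent.Lib.SuzType.Setup

/-!
Groups of Conway type: the centralizer of the element of order three, modulo it, is of Suzuki sporadic type.
-/

set_option autoImplicit false
set_option linter.unusedSectionVars false
set_option maxRecDepth 20000
set_option maxHeartbeats 400000
set_option synthInstance.maxSize 2048

universe u

namespace CfsgLib.ConwayType.ThreeX

open QuadraticMap CfsgLib.ConwayType CfsgLargeExtra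
open CfsgLib.HallJankoType (mem_cent conj_fix_iff)

variable {G : Type u} [Group G] [Finite G] {z a b : G} {Q : Subgroup G} {π : G → V} {M : G → O8}
variable {C : Subgroup G} {X : Type u} [Group X] [Finite X] {f : C →* X} {zC : C}

/-- The centralizer of `a` with the quotient by the subgroup generated by `a`, and `z` in it. -/
structure Proj (z a : G) (C : Subgroup G) (f : C →* X) (zC : C) : Prop where
  mem : ∀ g, g ∈ C ↔ g * a = a * g
  surj : Function.Surjective f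
  ker : ∀ g : C, f g = 1 ↔ ∃ i : ℕ, (g : G) = a ^ i
  zC : (zC : G) = z

namespace X3

variable (T : X3 z a b Q π M)
include T

theorem pow_a_Q {i : ℕ} (h : a ^ i ∈ Q) : a ^ i = 1 :=
  eq_one_of_three T.st h (by rw [← pow_mul, mul_comm, pow_mul, T.a3, one_pow])

theorem pow_a_coprime {i k : ℕ} (hk : Nat.Coprime k 3) (h : (a ^ i) ^ k = 1) : a ^ i = 1 := by
  rw [← orderOf_eq_one_iff]
  exact Nat.eq_one_of_dvd_coprimes hk (orderOf_dvd_of_pow_eq_one h)
    (orderOf_dvd_of_pow_eq_one (by rw [← pow_mul, mul_comm, pow_mul, T.a3, one_pow]))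

theorem M_Cr {c : G} (hcz : c * z = z * c) (hca : c * a = a * c) : M c ∈ Cr := by
  rw [mem_Cr, ← T.Ma_eq, ← T.st.M_mul _ _ hcz T.az, ← T.st.M_mul _ _ T.az hcz, hca]

theorem io_π {q : G} (hq : q ∈ Q) (hqa : q * a = a * q) : io (pr (π q)) = π q :=
  fix_perp.mp (by rw [← T.Ma_eq]; exact fix_of_comm T.st T.az hq hqa.symm)

end X3

namespace Proj

variable (Pj : Proj z a C f zC)
include Pj

theorem eq_iff {c d : C} : f c = f d ↔ ∃ i : ℕ, (c : G) = (d : G) * a ^ i := by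
  rw [show f c = f d ↔ f (d⁻¹ * c) = 1 by rw [map_mul, map_inv, inv_mul_eq_one, eq_comm], Pj.ker]
  refine exists_congr fun i => ?_
  rw [Subgroup.coe_mul, Subgroup.coe_inv, inv_mul_eq_iff_eq_mul]

/-- A representative. -/
noncomputable def rep (y : X) : C := (Pj.surj y).choose

theorem rep_spec (y : X) : f (Pj.rep y) = y := (Pj.surj y).choose_spec

/-- The image of the extraspecial group. -/
noncomputable def Qb (_Pj : Proj z a C f zC) (Q : Subgroup G) : Subgroup X := (Q.subgroupOf C).map f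

theorem mem_Qb {y : X} : y ∈ Pj.Qb Q ↔ ∃ q : C, (q : G) ∈ Q ∧ f q = y := Iff.rfl

open Classical in
/-- The coordinates on the image. -/
noncomputable def pb (_Pj : Proj z a C f zC) (Q : Subgroup G) (π : G → V) (y : X) : SuzType.V :=
  if h : ∃ q : C, (q : G) ∈ Q ∧ f q = y then pr (π (h.choose : G)) else 0

/-- The action on the coordinates of the image. -/
noncomputable def Mb (Pj : Proj z a C f zC) (M : G → O8) (y : X) : SuzType.O6 := res (M (Pj.rep y : G))

variable (T : X3 z a b Q π M)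
include T

theorem Q_inj {c d : C} (hc : (c : G) ∈ Q) (hd : (d : G) ∈ Q) (e : f c = f d) : c = d := by
  obtain ⟨i, hi⟩ := Pj.eq_iff.mp e
  refine Subtype.ext ?_
  rw [hi, T.pow_a_Q (by rw [show a ^ i = (d : G)⁻¹ * c by rw [hi]; group]; exact mul_mem (inv_mem hd) hc), mul_one]

theorem pb_eq {q : C} (hq : (q : G) ∈ Q) : Pj.pb Q π (f q) = pr (π (q : G)) := by
  classical
  have h : ∃ r : C, (r : G) ∈ Q ∧ f r = f q := ⟨q, hq, rfl⟩
  rw [Proj.pb, dif_pos h, Pj.Q_inj T h.choose_spec.1 hq h.choose_spec.2]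

theorem comm_zX (c : C) : f c * f zC = f zC * f c ↔ (c : G) * z = z * c := by
  rw [← map_mul, ← map_mul, Pj.eq_iff]
  constructor
  · rintro ⟨i, hi⟩
    rw [Subgroup.coe_mul, Subgroup.coe_mul, Pj.zC] at hi
    have hc : (c : G) * a ^ i = a ^ i * c := Commute.pow_right (show Commute (c : G) a from (Pj.mem _).mp c.2) i
    have h1 : (c : G) * z * (c : G)⁻¹ = z * a ^ i := by
      rw [hi, mul_assoc z, hc]; group
    have hza : Commute z (a ^ i) := Commute.pow_right T.az.symm i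
    have h2 : (z * a ^ i) ^ 2 = 1 := by rw [← h1, conj_pow, sq z, T.st.zz, mul_one, mul_inv_cancel]
    rw [hza.mul_pow, sq z, T.st.zz, one_mul] at h2
    rw [T.pow_a_coprime (by norm_num) h2, mul_one] at hi
    exact hi
  · intro e
    exact ⟨0, by rw [Subgroup.coe_mul, Subgroup.coe_mul, Pj.zC, pow_zero, mul_one, e]⟩

theorem rep_z {y : X} (hy : y * f zC = f zC * y) : (Pj.rep y : G) * z = z * Pj.rep y :=
  (Pj.comm_zX T _).mp (by rwa [Pj.rep_spec])

theorem Mb_eq {c : C} (hc : (c : G) * z = z * c) : Pj.Mb M (f c) = res (M (c : G)) := by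
  obtain ⟨i, hi⟩ := Pj.eq_iff.mp (Pj.rep_spec (f c))
  have hi' : a ^ i * z = z * a ^ i := Commute.pow_left T.az i
  rw [Proj.Mb, hi, T.st.M_mul _ _ hc hi', M_pow T.st T.az, T.Ma_eq,
    res_mul (T.M_Cr hc ((Pj.mem _).mp c.2)) (pow_mem rT_Cr i), res_pow, mul_one]

theorem exists_q (w : SuzType.V) : ∃ q : C, (q : G) ∈ Q ∧ π (q : G) = io w := by
  obtain ⟨q, hq, e⟩ := T.st.π_surj (io w)
  have h := cent_lift T.st T.az T.a3 hq (by rw [T.Ma_eq, e, io_fix])
  exact ⟨⟨q, (Pj.mem q).mpr h.symm⟩, hq, e⟩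

theorem zC_Q : (zC : G) ∈ Q := Pj.zC.symm ▸ T.st.es.mem

theorem mk_pow_four {q : G} (hq : q ∈ Q) : q ^ 4 = 1 := four_pow T.st hq

theorem es : ES (Pj.Qb Q) (f zC) where
  mem := ⟨zC, Pj.zC_Q T, rfl⟩
  ne e := by
    have := Pj.Q_inj T (Pj.zC_Q T) (show ((1 : C) : G) ∈ Q from one_mem _) (by rw [e, map_one])
    exact T.st.es.ne (Pj.zC.symm.trans (congrArg Subtype.val this))
  comm := by
    rintro _ ⟨q, (hq : (q : G) ∈ Q), rfl⟩
    exact (Pj.comm_zX T q).mpr (T.st.es.comm _ hq)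
  sq := by
    rintro _ ⟨q, (hq : (q : G) ∈ Q), rfl⟩
    rw [← map_mul]
    rcases T.st.es.sq _ hq with e | e
    · left
      rw [show q * q = 1 from Subtype.ext e, map_one]
    · right
      exact congrArg f (Subtype.ext (e.trans Pj.zC.symm))
  cen y hy := by
    obtain ⟨c, rfl⟩ := Pj.surj y
    have hca : Commute (c : G) a := (Pj.mem _).mp c.2
    have hcq : ∀ q : C, (q : G) ∈ Q → (c : G) * q = q * c := by
      intro q hq
      have e := hy (f q) ⟨q, hq, rfl⟩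
      rw [← map_mul, ← map_mul, Pj.eq_iff] at e
      obtain ⟨i, hi⟩ := e
      rw [Subgroup.coe_mul, Subgroup.coe_mul] at hi
      have h1 : (c : G) * q * (c : G)⁻¹ = q * a ^ i := by
        rw [hi, mul_assoc (q : G), (hca.pow_right i).eq]; group
      have hqa : Commute (q : G) (a ^ i) := Commute.pow_right (show Commute (q : G) a from (Pj.mem _).mp q.2) i
      have h4 : ((q : G) * a ^ i) ^ 4 = 1 := by rw [← h1, conj_pow, four_pow T.st hq, mul_one, mul_inv_cancel]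
      rw [hqa.mul_pow, four_pow T.st hq, one_mul] at h4
      rw [T.pow_a_coprime (by norm_num) h4, mul_one] at hi
      exact hi
    have hcz : (c : G) * z = z * c := by
      have := hcq zC (Pj.zC_Q T)
      rwa [Pj.zC] at this
    have hfix : ∀ w, (M (c : G)).1 (io w) = io w := fun w => by
      obtain ⟨q, hq, e⟩ := Pj.exists_q T w
      rw [← e]
      exact fix_of_comm T.st hcz hq (hcq q hq)
    have hres : res (M (c : G)) = 1 := Subtype.ext (LinearEquiv.ext fun w => by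
      rw [res_apply (T.M_Cr hcz hca.eq), hfix]
      exact (io_facts w).1)
    obtain ⟨i, hi⟩ := Cr_split (T.M_Cr hcz hca.eq)
    rw [hres, map_one, one_mul, ← T.Ma_eq, ← M_pow T.st T.az] at hi
    have hiz : a ^ i * z = z * a ^ i := Commute.pow_left T.az i
    have hqQ : (c : G) * (a ^ i)⁻¹ ∈ Q := by
      refine (T.st.M_ker _ (Commute.mul_left hcz (Commute.inv_left hiz))).mp ?_
      rw [T.st.M_mul _ _ hcz (Commute.inv_left hiz), T.st.M_inv hiz, hi, mul_inv_cancel]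
    have hiC : a ^ i ∈ C := (Pj.mem _).mpr (Commute.pow_self a i).eq
    set q : C := c * ⟨a ^ i, hiC⟩⁻¹ with hqdef
    have hfc : f c = f q := Pj.eq_iff.mpr ⟨i, by rw [hqdef, Subgroup.coe_mul, Subgroup.coe_inv]; group⟩
    have hzero : pr (π (q : G)) = 0 := by
      refine SuzType.qf_nondeg.1 _ fun w => ?_
      obtain ⟨r, hr, e⟩ := Pj.exists_q T w
      show SuzType.bf (pr (π (q : G))) w = 0
      rw [← io_bf, ← e]
      refine (T.st.comm _ hqQ _ hr).mp ?_
      exact (Commute.mul_left (hcq r hr : Commute (c : G) r)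
        (Commute.inv_left (Commute.pow_left (show Commute a (r : G) from ((Pj.mem _).mp r.2).symm) i))).eq
    have hqQ' : (q : G) ∈ Q := hqQ
    have h0 : π (q : G) = 0 := by rw [← T.io_π hqQ' ((Pj.mem _).mp q.2), hzero, map_zero]
    rw [hfc]
    rcases T.st.π_ker _ hqQ h0 with e | e
    · left; rw [show q = 1 from Subtype.ext e, map_one]
    · right; exact congrArg f (Subtype.ext (e.trans Pj.zC.symm))
  nor y hy := by
    obtain ⟨c, rfl⟩ := Pj.surj y
    have hcz := (Pj.comm_zX T c).mp hy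
    rintro _ ⟨q, (hq : (q : G) ∈ Q), rfl⟩
    exact ⟨c * q * c⁻¹, T.st.nor_mem hcz hq, by rw [map_mul, map_mul, map_inv]⟩

theorem card_Qb : Nat.card ↥(Pj.Qb Q) = 128 := by
  classical
  let φ : Pj.Qb Q →* Multiplicative SuzType.V := MonoidHom.mk'
    (fun y => Multiplicative.ofAdd (Pj.pb Q π (y : X))) fun y y' => by
      obtain ⟨q, (hq : (q : G) ∈ Q), e⟩ := y.2
      obtain ⟨q', (hq' : (q' : G) ∈ Q), e'⟩ := y'.2
      refine congrArg Multiplicative.ofAdd ?_
      rw [Subgroup.coe_mul, ← e, ← e', ← map_mul, Pj.pb_eq T (mul_mem hq hq'), Pj.pb_eq T hq, Pj.pb_eq T hq',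
        Subgroup.coe_mul, T.st.π_mul _ hq _ hq', map_add]
      rfl
  have hsurj : φ.range = ⊤ := eq_top_iff.mpr fun w _ => by
    obtain ⟨q, hq, e⟩ := Pj.exists_q T (Multiplicative.toAdd w)
    refine ⟨⟨f q, q, hq, rfl⟩, ?_⟩
    show Multiplicative.ofAdd (Pj.pb Q π (f q)) = w
    rw [Pj.pb_eq T hq, e, (io_facts _).1, ofAdd_toAdd]
  have hker : (φ.ker : Set (Pj.Qb Q)) = {1, ⟨f zC, (Pj.es T).mem⟩} := by
    ext y
    constructor
    · intro hy
      obtain ⟨q, (hq : (q : G) ∈ Q), e⟩ := y.2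
      have h1 : Pj.pb Q π (f q) = 0 := by rw [e]; exact Multiplicative.ofAdd.injective hy
      rw [Pj.pb_eq T hq] at h1
      have h0 : π (q : G) = 0 := by rw [← T.io_π hq ((Pj.mem _).mp q.2), h1, map_zero]
      rcases T.st.π_ker _ hq h0 with e' | e'
      · exact Or.inl (Subtype.ext (by rw [← e, show q = 1 from Subtype.ext e', map_one]; rfl))
      · exact Or.inr (Subtype.ext (by rw [← e, show q = zC from Subtype.ext (e'.trans Pj.zC.symm)]))
    · rintro (rfl | rfl)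
      · exact φ.ker.one_mem
      · show Multiplicative.ofAdd (Pj.pb Q π (f zC)) = 1
        rw [Pj.pb_eq T (Pj.zC_Q T), Pj.zC, T.st.π_z, map_zero]
        rfl
  have h1 := φ.ker.card_mul_index
  rw [Subgroup.index_ker, hsurj, Subgroup.card_top, show Nat.card φ.ker = Nat.card (φ.ker : Set (Pj.Qb Q)) from rfl,
    hker, Nat.card_coe_set_eq, Set.ncard_pair fun e => (Pj.es T).ne (congrArg Subtype.val e).symm] at h1
  rw [← h1]
  simp [Nat.card_eq_fintype_card]

/-- The quotient has the setting of Suzuki sporadic type. -/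
theorem st : SuzType.ST (f zC) (Pj.Qb Q) (Pj.pb Q π) (Pj.Mb M) where
  es := Pj.es T
  card := Pj.card_Qb T
  π_mul := by
    rintro _ ⟨q, (hq : (q : G) ∈ Q), rfl⟩ _ ⟨r, (hr : (r : G) ∈ Q), rfl⟩
    rw [← map_mul, Pj.pb_eq T (mul_mem hq hr), Pj.pb_eq T hq, Pj.pb_eq T hr, Subgroup.coe_mul,
      T.st.π_mul _ hq _ hr, map_add]
  π_ker := by
    rintro _ ⟨q, (hq : (q : G) ∈ Q), rfl⟩ e
    rw [Pj.pb_eq T hq] at e
    have h0 : π (q : G) = 0 := by rw [← T.io_π hq ((Pj.mem _).mp q.2), e, map_zero]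
    rcases T.st.π_ker _ hq h0 with e' | e'
    · left; rw [show q = 1 from Subtype.ext e', map_one]
    · right; exact congrArg f (Subtype.ext (e'.trans Pj.zC.symm))
  π_surj w := by
    obtain ⟨q, hq, e⟩ := Pj.exists_q T w
    exact ⟨f q, ⟨q, hq, rfl⟩, by rw [Pj.pb_eq T hq, e, (io_facts w).1]⟩
  sq := by
    rintro _ ⟨q, (hq : (q : G) ∈ Q), rfl⟩
    rw [Pj.pb_eq T hq, ← (io_facts _).2.1, T.io_π hq ((Pj.mem _).mp q.2), ← T.st.sq _ hq, ← map_mul]
    constructor
    · intro e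
      exact congrArg Subtype.val (Pj.Q_inj T (c := q * q) (d := 1) (mul_mem hq hq) (one_mem _) (by rw [e, map_one]))
    · intro e
      rw [show q * q = 1 from Subtype.ext e, map_one]
  comm := by
    rintro _ ⟨q, (hq : (q : G) ∈ Q), rfl⟩ _ ⟨r, (hr : (r : G) ∈ Q), rfl⟩
    rw [Pj.pb_eq T hq, Pj.pb_eq T hr]
    show _ ↔ SuzType.bf (pr (π (q : G))) (pr (π (r : G))) = 0
    rw [← io_bf, T.io_π hr ((Pj.mem _).mp r.2), ← map_mul, ← map_mul]
    show _ ↔ polar qf (π (q : G)) (π (r : G)) = 0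
    rw [← T.st.comm _ hq _ hr]
    constructor
    · intro e
      exact congrArg Subtype.val (Pj.Q_inj T (c := q * r) (d := r * q) (mul_mem hq hr) (mul_mem hr hq) e)
    · intro e
      rw [show q * r = r * q from Subtype.ext e]
  M_mul y y' hy hy' := by
    obtain ⟨c, rfl⟩ := Pj.surj y
    obtain ⟨d, rfl⟩ := Pj.surj y'
    have hc := (Pj.comm_zX T c).mp hy
    have hd := (Pj.comm_zX T d).mp hy'
    rw [← map_mul, Pj.Mb_eq T (c := c * d) (Commute.mul_left hc hd), Pj.Mb_eq T hc, Pj.Mb_eq T hd, Subgroup.coe_mul,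
      T.st.M_mul _ _ hc hd, res_mul (T.M_Cr hc ((Pj.mem _).mp c.2)) (T.M_Cr hd ((Pj.mem _).mp d.2))]
  M_act y hy := by
    obtain ⟨c, rfl⟩ := Pj.surj y
    have hc := (Pj.comm_zX T c).mp hy
    rintro _ ⟨q, (hq : (q : G) ∈ Q), rfl⟩
    have hn := T.st.nor_mem hc hq
    rw [← map_inv, ← map_mul, ← map_mul, Pj.pb_eq T (q := c * q * c⁻¹) hn, Pj.Mb_eq T hc, Pj.pb_eq T hq,
      res_apply (T.M_Cr hc ((Pj.mem _).mp c.2)), T.io_π hq ((Pj.mem _).mp q.2), ← T.st.M_act _ hc _ hq]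
    rfl
  M_ker y hy := by
    obtain ⟨c, rfl⟩ := Pj.surj y
    have hc := (Pj.comm_zX T c).mp hy
    rw [Pj.Mb_eq T hc]
    constructor
    · intro e
      obtain ⟨i, hi⟩ := Cr_split (T.M_Cr hc ((Pj.mem _).mp c.2))
      rw [e, map_one, one_mul, ← T.Ma_eq, ← M_pow T.st T.az] at hi
      have hiz : a ^ i * z = z * a ^ i := Commute.pow_left T.az i
      have hiC : a ^ i ∈ C := (Pj.mem _).mpr (Commute.pow_self a i).eq
      refine ⟨c * ⟨a ^ i, hiC⟩⁻¹, (T.st.M_ker _ (Commute.mul_left hc (Commute.inv_left hiz))).mp ?_, ?_⟩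
      · rw [T.st.M_mul _ _ hc (Commute.inv_left hiz), T.st.M_inv hiz, hi, mul_inv_cancel]
      · rw [map_mul, map_inv, (Pj.ker ⟨a ^ i, hiC⟩).mpr ⟨i, rfl⟩, inv_one, mul_one]
    · rintro ⟨q, (hq : (q : G) ∈ Q), e⟩
      rw [← Pj.Mb_eq T hc, ← e, Pj.Mb_eq T (T.st.es.comm _ hq), T.st.M_Q hq, res_one]
  M_mem y hy := by
    obtain ⟨c, rfl⟩ := Pj.surj y
    have hc := (Pj.comm_zX T c).mp hy
    rw [Pj.Mb_eq T hc]
    exact res_mem (T.M_Cr hc ((Pj.mem _).mp c.2)) (T.st.M_mem _ hc)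
  M_surj g hg := by
    obtain ⟨c, hc, hM⟩ := T.st.M_surj (ext6 g) ((ext6_mem g).mpr hg)
    obtain ⟨c', hc', hM', hca⟩ := lift_cent T.st (Subgroup.centralizer ({z} : Set G)) (fun d hd => mem_cent.mp hd)
      (mem_cent.mpr T.az) T.a3 T.Ma_ne (mem_cent.mpr hc) (by rw [hM, T.Ma_eq]; exact mem_Cr.mp (ext6_Cr g))
    have hc'z := mem_cent.mp hc'
    refine ⟨f ⟨c', (Pj.mem _).mpr hca⟩, (Pj.comm_zX T _).mpr hc'z, ?_⟩
    rw [Pj.Mb_eq T (c := ⟨c', (Pj.mem _).mpr hca⟩) hc'z]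
    show res (M c') = g
    rw [hM', hM, res_ext6]
  fused := by
    obtain ⟨g, hga, hQ, hca, hne⟩ := T.fused
    refine ⟨f ⟨g, (Pj.mem _).mpr hga⟩, ?_, fun e => hne ?_⟩
    · refine ⟨⟨g, (Pj.mem _).mpr hga⟩ * zC * ⟨g, (Pj.mem _).mpr hga⟩⁻¹, ?_, by rw [map_mul, map_mul, map_inv]⟩
      show g * (zC : G) * g⁻¹ ∈ Q
      rw [Pj.zC]; exact hQ
    · rw [← map_inv, ← map_mul, ← map_mul] at e
      have := congrArg Subtype.val (Pj.Q_inj T (c := ⟨g, (Pj.mem _).mpr hga⟩ * zC * ⟨g, (Pj.mem _).mpr hga⟩⁻¹)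
        (d := zC) (by show g * (zC : G) * g⁻¹ ∈ Q; rw [Pj.zC]; exact hQ) (Pj.zC_Q T) e)
      simpa [Pj.zC] using this

end Proj

end CfsgLib.ConwayType.ThreeX
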