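import Cfsg.Agent.Lib.ConwayType.ThreeX.Image
import Cfsg.Agent.Lib.SuzType.ThreeY.Main
import Cfsg.Agent.Lib.SuzType.Iso.Main
import Cfsg.Agent.S1694

/-!
Groups of Conway type: the centralizer of the element of order three is a quasisimple triple cover of Suz.
-/

set_option autoImplicit false
set_option linter.unusedSectionVars false
set_option maxRecDepth 20000
set_option maxHeartbeats 400000
set_option synthInstance.maxSize 2048

universe u

namespace CfsgLib.ConwayType.ThreeX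

open CfsgLib.ConwayType
open CfsgLib.HallJankoType (mem_cent conj_fix_iff)
open scoped commutatorElement

variable {G : Type u} [Group G] [Finite G] {z a b : G} {Q : Subgroup G} {π : G → V} {M : G → O8}
variable {C : Subgroup G} {X : Type u} [Group X] [Finite X] {f : C →* X} {zC : C}

namespace Proj

variable (Pj : Proj z a C f zC) (T : X3 z a b Q π M)
include Pj T

theorem iso_suz : Cfsg.Spor.IsoSuz X := by
  obtain ⟨x, t, w, r, π₁, M₁, S⟩ := (Pj.st T).exists_setting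
  exact S.exists_iso

theorem isSimple : IsSimpleGroup X := by
  obtain ⟨e⟩ := Pj.iso_suz T
  haveI : IsSimpleGroup Cfsg.Spor.Suz := Cfsg.Agent.S1694.result.1
  exact e.isSimpleGroup

theorem b_mem : b ∈ C := (Pj.mem b).mpr T.ab.symm

theorem fb_rho : SuzType.ThreeY.Y3 (f zC) (f ⟨b, Pj.b_mem T⟩) (Pj.Qb Q) (Pj.pb Q π) (Pj.Mb M) := by
  have hMb : Pj.Mb M (f ⟨b, Pj.b_mem T⟩) = SuzType.ThreeY.rho := by
    rw [Pj.Mb_eq T (c := ⟨b, Pj.b_mem T⟩) T.bz]
    exact rho_res (T.M_Cr T.bz T.ab.symm) T.Mb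
  refine ⟨Pj.st T, (Pj.comm_zX T ⟨b, Pj.b_mem T⟩).mpr T.bz, ?_, fun e => ?_, hMb⟩
  · rw [← map_pow, show (⟨b, Pj.b_mem T⟩ : C) ^ 3 = 1 from Subtype.ext T.b3, map_one]
  · rw [e, (Pj.st T).M_one] at hMb
    have h1 : SuzType.ThreeY.rot SuzType.d0 SuzType.d1 SuzType.d0 ≠ SuzType.d0 := by decide +kernel
    exact h1 ((SuzType.ThreeY.rho_apply _).symm.trans (by rw [← hMb]; rfl))

/-- The centralizer of the image of `b` is perfect. -/
theorem cent_perfect {K : Type} [Field K] [Fintype K] (hK : Fintype.card K = 9)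
    (hrec : SuzType.ThreeY.Recog.{u} K) :
    commutator ↥(Subgroup.centralizer ({f ⟨b, Pj.b_mem T⟩} : Set X)) = ⊤ := by
  set y := f ⟨b, Pj.b_mem T⟩ with hy
  have T6 := Pj.fb_rho T
  rw [← hy] at T6
  obtain ⟨y₁, y₂, Cf⟩ := T6.exists_cfg3
  set D := Subgroup.centralizer ({y} : Set X) with hD
  set N := (Subgroup.zpowers y).subgroupOf D with hN
  have hNmem : ∀ g : D, g ∈ N ↔ ∃ i : ℕ, (g : X) = y ^ i := by
    intro g
    rw [hN, Subgroup.mem_subgroupOf, ← mem_powers_iff_mem_zpowers, Submonoid.mem_powers_iff]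
    exact ⟨fun ⟨i, h⟩ => ⟨i, h.symm⟩, fun ⟨i, h⟩ => ⟨i, h.symm⟩⟩
  haveI : N.Normal := ⟨fun n hn c => by
    obtain ⟨i, hi⟩ := (hNmem n).mp hn
    refine (hNmem _).mpr ⟨i, ?_⟩
    rw [Subgroup.coe_mul, Subgroup.coe_mul, Subgroup.coe_inv, hi]
    exact conj_fix_iff.mpr (Commute.pow_right (show Commute (c : X) y from mem_cent.mp c.2) i).eq⟩
  let zD : D := ⟨f zC, mem_cent.mpr T6.yz.symm⟩
  have Pj6 : SuzType.ThreeY.Proj (f zC) y D (QuotientGroup.mk' N) zD :=
    ⟨fun g => mem_cent, QuotientGroup.mk'_surjective N, fun g => (QuotientGroup.eq_one_iff g).trans (hNmem g), rfl⟩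
  obtain ⟨E⟩ := Cf.quotient_iso Pj6 hrec
  haveI : IsSimpleGroup (Cfsg.PSU 4 K 3) :=
    CfsgLib.UnitarySimple.simple (by rw [hK]; norm_num) (by norm_num) (by omega)
  haveI : IsSimpleGroup (D ⧸ N) := E.isSimpleGroup
  exact Cf.perfect Pj6

/-- The element of order three lies in the derived group of its centralizer, which is perfect. -/
theorem perfect {K : Type} [Field K] [Fintype K] (hK : Fintype.card K = 9)
    (hrec : SuzType.ThreeY.Recog.{u} K) : commutator C = ⊤ ∧ commutator X ≠ ⊥ := by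
  classical
  set bC : C := ⟨b, Pj.b_mem T⟩ with hbC
  set D := Subgroup.centralizer ({f bC} : Set X) with hD
  have hDp : ⁅D, D⁆ = D := by
    rw [← D.map_subtype_commutator, Pj.cent_perfect T hK hrec, ← MonoidHom.range_eq_map, Subgroup.range_subtype]
  set P := D.comap f with hP
  have hfix : ∀ p ∈ P, ∃ i : ℕ, (p : G) * b * (p : G)⁻¹ = b * a ^ i := by
    intro p hp
    have e : f (p * bC * p⁻¹) = f bC := by
      rw [map_mul, map_mul, map_inv]
      exact conj_fix_iff.mpr (mem_cent.mp hp)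
    exact Pj.eq_iff.mp e
  have hpa : ∀ p : C, (p : G) * a * (p : G)⁻¹ = a := fun p => conj_fix_iff.mpr ((Pj.mem _).mp p.2)
  set W : Subgroup C := (Subgroup.centralizer ({b} : Set G)).comap C.subtype with hW
  have hWmem : ∀ {p : C}, p ∈ W ↔ (p : G) * b = b * p := fun {p} => Iff.trans Subgroup.mem_comap mem_cent
  have hcomm : ⁅P, P⁆ ≤ W := by
    refine Subgroup.commutator_le.mpr fun p hp q hq => hWmem.mpr (conj_fix_iff.mp ?_)
    obtain ⟨i, hi⟩ := hfix p hp
    obtain ⟨j, hj⟩ := hfix q hq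
    have key : ∀ (r : C) (k l : ℕ), (r : G) * b * (r : G)⁻¹ = b * a ^ k →
        (r : G) * (b * a ^ l) * (r : G)⁻¹ = b * a ^ (k + l) ∧
          (r : G)⁻¹ * (b * a ^ (k + l)) * r = b * a ^ l := by
      intro r k l hr
      have e1 : (r : G) * (b * a ^ l) * (r : G)⁻¹ = b * a ^ (k + l) := by
        calc (r : G) * (b * a ^ l) * (r : G)⁻¹
            = ((r : G) * b * (r : G)⁻¹) * ((r : G) * a ^ l * (r : G)⁻¹) := by group
          _ = b * a ^ (k + l) := by rw [hr, ← conj_pow, hpa, mul_assoc, ← pow_add]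
      refine ⟨e1, ?_⟩
      rw [← e1]; group
    have e1 := (key q j 0 hj).2
    rw [pow_zero, mul_one, add_zero] at e1
    -- undo `q`, then `p`, then do `q`, then `p`
    have s1 : ∀ (r : C) (k l : ℕ), (r : G) * b * (r : G)⁻¹ = b * a ^ k → ∃ m : ℕ,
        (r : G)⁻¹ * (b * a ^ l) * r = b * a ^ m ∧ (m + k) % 3 = l % 3 := by
      intro r k l hr
      refine ⟨l + 2 * k, ?_, by omega⟩
      have h3 : a ^ (k + (l + 2 * k)) = a ^ l := by
        rw [show k + (l + 2 * k) = l + 3 * k by ring, pow_add, pow_mul, T.a3, one_pow, mul_one]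
      rw [← h3]
      exact (key r k (l + 2 * k) hr).2
    obtain ⟨m1, h1, g1⟩ := s1 q j 0 hj
    obtain ⟨m2, h2, g2⟩ := s1 p i m1 hi
    have h3 := (key q j m2 hj).1
    have h4 := (key p i (j + m2) hi).1
    rw [commutatorElement_def]
    simp only [Subgroup.coe_mul, Subgroup.coe_inv]
    calc (p : G) * q * (p : G)⁻¹ * (q : G)⁻¹ * b * ((p : G) * q * (p : G)⁻¹ * (q : G)⁻¹)⁻¹
        = p * (q * ((p : G)⁻¹ * ((q : G)⁻¹ * (b * a ^ 0) * q) * p) * (q : G)⁻¹) * (p : G)⁻¹ := by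
          rw [pow_zero, mul_one]; group
      _ = b * a ^ (i + (j + m2)) := by rw [h1, h2, h3, h4]
      _ = b := by
          rw [pow_eq_pow_mod (i + (j + m2)) T.a3, show (i + (j + m2)) % 3 = 0 by omega, pow_zero, mul_one]
  have himg : ⁅P, P⁆.map f = D := by
    rw [Subgroup.map_commutator, hP, Subgroup.map_comap_eq_self_of_surjective Pj.surj, hDp]
  have hPW : P ≤ W := by
    intro p hp
    obtain ⟨d, hd, e⟩ : f p ∈ ⁅P, P⁆.map f := himg.symm ▸ hp
    obtain ⟨i, hi⟩ := Pj.eq_iff.mp e.symm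
    refine hWmem.mpr ?_
    rw [hi]
    exact (Commute.mul_left (hWmem.mp (hcomm hd)) (Commute.pow_left T.ab i)).eq
  set D0 := Subgroup.centralizer ({a} : Set G) ⊓ Subgroup.centralizer ({b} : Set G) with hD0
  have hPD : P.map C.subtype ≤ D0 := by
    rintro _ ⟨p, hp, rfl⟩
    exact ⟨mem_cent.mpr ((Pj.mem _).mp p.2), mem_cent.mpr (hWmem.mp (hPW hp))⟩
  have hbD : f bC ∈ D := mem_cent.mpr rfl
  obtain ⟨d, hd, hdb⟩ : f bC ∈ ⁅P, P⁆.map f := himg.symm ▸ hbD
  obtain ⟨j, hj⟩ := Pj.eq_iff.mp hdb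
  have hdD : b * a ^ j ∈ ⁅D0, D0⁆ := by
    have h1 : C.subtype d ∈ ⁅P, P⁆.map C.subtype := Subgroup.mem_map_of_mem _ hd
    rw [Subgroup.map_commutator] at h1
    have h2 := Subgroup.commutator_mono hPD hPD h1
    rwa [show C.subtype d = b * a ^ j from hj] at h2
  have hD0C : D0 ≤ C := fun g hg => (Pj.mem g).mpr (mem_cent.mp hg.1)
  have hCC : ⁅D0, D0⁆ ≤ ⁅C, C⁆ := Subgroup.commutator_mono hD0C hD0C
  have conjD : ∀ n : G, (∀ g, g * a = a * g → g * b = b * g → n * g * n⁻¹ * a = a * (n * g * n⁻¹) ∧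
      n * g * n⁻¹ * b = b * (n * g * n⁻¹)) → ∀ v ∈ ⁅D0, D0⁆, n * v * n⁻¹ ∈ ⁅D0, D0⁆ := by
    intro n hn v hv
    have h1 : (MulAut.conj n).toMonoidHom v ∈ ⁅D0, D0⁆.map (MulAut.conj n).toMonoidHom := Subgroup.mem_map_of_mem _ hv
    rw [Subgroup.map_commutator] at h1
    have hle : D0.map (MulAut.conj n).toMonoidHom ≤ D0 := by
      rintro _ ⟨g, hg, rfl⟩
      obtain ⟨e1, e2⟩ := hn g (mem_cent.mp hg.1) (mem_cent.mp hg.2)
      exact ⟨mem_cent.mpr e1, mem_cent.mpr e2⟩
    exact Subgroup.commutator_mono hle hle h1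
  have move : ∀ (n g c c' : G), n * c * n⁻¹ = c' → g * c = c * g → n * g * n⁻¹ * c' = c' * (n * g * n⁻¹) := by
    intro n g c c' e hg
    calc n * g * n⁻¹ * c' = n * (g * c) * n⁻¹ := by rw [← e]; group
      _ = n * (c * g) * n⁻¹ := by rw [hg]
      _ = _ := by rw [← e]; group
  have haC : a ∈ ⁅C, C⁆ := by
    by_cases hj0 : j % 3 = 0
    · rw [pow_eq_pow_mod j T.a3, hj0, pow_zero, mul_one] at hdD
      obtain ⟨n, na, nb⟩ := T.exists_n
      have := conjD n (fun g ga gb => ⟨move n g b a nb gb, move n g a b na ga⟩) b hdD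
      rw [nb] at this
      exact hCC this
    · obtain ⟨k, ka, kb⟩ := T.exists_k
      have h2 := conjD k (fun g ga gb => ⟨move k g a⁻¹ a (by rw [← conj_inv, ka, inv_inv])
        (Commute.inv_right ga : Commute g a⁻¹).eq, move k g b b kb gb⟩) _ hdD
      rw [show k * (b * a ^ j) * k⁻¹ = k * b * k⁻¹ * (k * a ^ j * k⁻¹) by group, kb, ← conj_pow, ka, inv_pow] at h2
      have h3 : a ^ (j + j) ∈ ⁅C, C⁆ := by
        have := mul_mem (inv_mem (hCC h2)) (hCC hdD)
        rwa [show (b * (a ^ j)⁻¹)⁻¹ * (b * a ^ j) = a ^ j * a ^ j by group, ← pow_add] at this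
      rw [pow_eq_pow_mod _ T.a3] at h3
      rcases (show (j + j) % 3 = 1 ∨ (j + j) % 3 = 2 by omega) with e | e <;> rw [e] at h3
      · rwa [pow_one] at h3
      · have := pow_mem h3 2
        rwa [← pow_mul, pow_eq_pow_mod _ T.a3, show 2 * 2 % 3 = 1 from rfl, pow_one] at this
  haveI := Pj.isSimple T
  have hXne : commutator X ≠ ⊥ := fun e => by
    have h1 : f bC ∈ ⁅D, D⁆ := hDp.symm ▸ hbD
    have h2 : ⁅D, D⁆ ≤ commutator X := by
      rw [commutator_def]; exact Subgroup.commutator_mono le_top le_top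
    have h3 := h2 h1
    rw [e, Subgroup.mem_bot] at h3
    exact (Pj.fb_rho T).y1 h3
  have hX : commutator X = ⊤ := (IsSimpleGroup.eq_bot_or_eq_top_of_normal _ inferInstance).resolve_left hXne
  refine ⟨eq_top_iff.mpr fun g _ => ?_, hXne⟩
  have hmap : (commutator C).map f = ⊤ := by
    rw [map_commutator_eq, MonoidHom.range_eq_top.mpr Pj.surj, ← commutator_def, hX]
  obtain ⟨d', hd', e⟩ : f g ∈ (commutator C).map f := hmap.symm ▸ Subgroup.mem_top _
  obtain ⟨i, hi⟩ := Pj.eq_iff.mp e.symm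
  rw [← C.map_subtype_commutator] at haC
  obtain ⟨aC, haC', hae⟩ := haC
  have hae' : (aC : G) = a := hae
  rw [show g = d' * aC ^ i from Subtype.ext (by rw [Subgroup.coe_mul, SubmonoidClass.coe_pow, hae', hi])]
  exact mul_mem hd' (pow_mem haC' i)

theorem quasisimple {K : Type} [Field K] [Fintype K] (hK : Fintype.card K = 9)
    (hrec : SuzType.ThreeY.Recog.{u} K) : Cfsg.IsQuasisimple C := by
  obtain ⟨hC, hX⟩ := Pj.perfect T hK hrec
  haveI := Pj.isSimple T
  refine ⟨⟨hC⟩, ?_⟩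
  have hcenter : Subgroup.center X = ⊥ :=
    (IsSimpleGroup.eq_bot_or_eq_top_of_normal _ inferInstance).resolve_right fun e => hX (by
      rw [commutator_def, Subgroup.commutator_eq_bot_iff_le_centralizer]
      intro y _
      have hy : y ∈ Subgroup.center X := e.symm ▸ Subgroup.mem_top y
      exact Subgroup.mem_centralizer_iff.mpr fun r _ => Subgroup.mem_center_iff.mp hy r)
  have hZ : Subgroup.center C = f.ker := by
    refine le_antisymm (fun g hg => ?_) fun g hg => Subgroup.mem_center_iff.mpr fun k => Subtype.ext ?_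
    · rw [MonoidHom.mem_ker, ← Subgroup.mem_bot, ← hcenter, Subgroup.mem_center_iff]
      intro y
      obtain ⟨k, rfl⟩ := Pj.surj y
      rw [← map_mul, ← map_mul, Subgroup.mem_center_iff.mp hg k]
    · obtain ⟨i, hi⟩ := (Pj.ker g).mp hg
      rw [Subgroup.coe_mul, Subgroup.coe_mul, hi]
      exact (Commute.pow_right (show Commute (k : G) a from (Pj.mem _).mp k.2) i).eq
  exact ((QuotientGroup.quotientMulEquivOfEq hZ).trans
    (QuotientGroup.quotientKerEquivOfSurjective f Pj.surj)).isSimpleGroup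

end Proj

end CfsgLib.ConwayType.ThreeX
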