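import Cfsg.Agent.Lib.ConwayType.ThreeX.Lift

/-!
Groups of Conway type: two commuting elements of order three as the rotations of two planes.
-/

set_option autoImplicit false
set_option linter.unusedSectionVars false
set_option maxRecDepth 20000
set_option maxHeartbeats 400000
set_option synthInstance.maxSize 2048

universe u

namespace CfsgLib.ConwayType.ThreeX

open QuadraticMap CfsgLib.ConwayType
open CfsgLib.HallJankoType (mem_cent conj_fix_iff)
open scoped commutatorElement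

variable {G : Type u} [Group G] [Finite G] {z a b : G} {Q : Subgroup G} {π : G → V} {M : G → O8}

theorem F2_eq_of : ∀ a b : F2, a + b = 0 → a = b := by decide

theorem add_cancel_self (x y : V) : x + (x + y) = y := by rw [← add_assoc, V_add_self, zero_add]

theorem eq_of_add_zero {x y : V} (h : x + y = 0) : x = y := by
  rw [← add_cancel_self x y, h, add_zero]

/-- An isometry of order three with four displacements is the rotation of an anisotropic plane. -/
theorem plane_of_three {g : O8} (g3 : g ^ 3 = 1) (g1 : g ≠ 1) (S : Set V) (hS : ∀ x, x + g.1 x ∈ S)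
    (h0 : (0 : V) ∈ S) (hadd : ∀ x ∈ S, ∀ y ∈ S, x + y ∈ S) (hcard : S.ncard ≤ 4) :
    ∃ u u' : V, g.1 u = u' ∧ g.1 u' = u + u' ∧ qf u = 1 ∧ qf u' = 1 ∧ bf u u' = 1 ∧
      (∀ x, g.1 x = rt u u' x) ∧ ∀ s ∈ S, ∃ c d : F2, s = c • u + d • u' := by
  have h3 : ∀ x, g.1 (g.1 (g.1 x)) = x := fun x => LinearEquiv.congr_fun (congrArg Subtype.val g3) x
  obtain ⟨v, hv⟩ : ∃ v, v + g.1 v ≠ 0 := by
    by_contra hall
    push Not at hall
    exact g1 (Subtype.ext (LinearEquiv.ext fun x => (eq_of_add_zero (hall x)).symm))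
  obtain ⟨u, hu⟩ : ∃ u, v + g.1 v = u := ⟨_, rfl⟩
  rw [hu] at hv
  obtain ⟨u', hu'⟩ : ∃ u', g.1 u = u' := ⟨_, rfl⟩
  have huS : u ∈ S := hu ▸ hS v
  have hu'S : u' ∈ S := by rw [← hu', ← hu, map_add]; exact hS (g.1 v)
  have hne : u' ≠ u := fun e => by
    have hgu : g.1 u = u := hu'.trans e
    have e1 : g.1 v = v + u := by rw [← hu, add_cancel_self]
    have e2 := h3 v
    rw [e1, map_add, hgu, e1, add_assoc, V_add_self, add_zero, e1] at e2
    exact hv (add_eq_left.mp e2)
  have hne0 : u' ≠ 0 := fun e => hv (g.1.map_eq_zero_iff.mp (hu'.trans e))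
  have hsum : g.1 u' = u + u' := by
    have e : g.1 u' + (u + u') = 0 := by
      rw [← hu', ← hu, map_add, map_add, h3]
      generalize g.1 v = p
      generalize g.1 p = q
      calc q + v + (v + p + (p + q)) = (q + q) + (v + v) + (p + p) := by abel
        _ = 0 := by simp only [V_add_self, add_zero]
    exact eq_of_add_zero e
  have hspan : ∀ s ∈ S, ∃ c d : F2, s = c • u + d • u' := by
    intro s hs
    by_contra hall
    push Not at hall
    have s0 : s ≠ 0 := fun e => hall 0 0 (by simp [e])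
    have s1 : s ≠ u := fun e => hall 1 0 (by simp [e])
    have s2 : s ≠ u' := fun e => hall 0 1 (by simp [e])
    have s3 : s ≠ u + u' := fun e => hall 1 1 (by simp [e])
    have huu : u + u' ≠ 0 := fun e => hne (eq_of_add_zero e).symm
    have hsub : ({0, u, u', u + u', s} : Set V) ⊆ S := by
      rintro x (rfl | rfl | rfl | rfl | rfl)
      exacts [h0, huS, hu'S, hadd _ huS _ hu'S, hs]
    have h5 : ({0, u, u', u + u', s} : Set V).ncard = 5 := by
      rw [Set.ncard_insert_of_notMem, Set.ncard_insert_of_notMem, Set.ncard_insert_of_notMem,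
        Set.ncard_pair s3.symm]
      · simp only [Set.mem_insert_iff, Set.mem_singleton_iff, not_or]
        exact ⟨fun e => hv (add_eq_right.mp e.symm), s2.symm⟩
      · simp only [Set.mem_insert_iff, Set.mem_singleton_iff, not_or]
        exact ⟨hne.symm, fun e => hne0 (add_eq_left.mp e.symm), s1.symm⟩
      · simp only [Set.mem_insert_iff, Set.mem_singleton_iff, not_or]
        exact ⟨hv.symm, hne0.symm, huu.symm, s0.symm⟩
    have := Set.ncard_le_ncard hsub (Set.toFinite _)
    omega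
  have hq1 : qf u' = qf u := by rw [← hu']; exact g.2 u
  have hq2 : qf (u + u') = qf u := by rw [← hsum, ← hq1]; exact g.2 u'
  have hbq : bf u u' = qf u := by
    have e := qf_add u u'
    rw [hq2, hq1, F2_add_self, zero_add] at e
    exact e.symm
  have hqu : qf u = 1 := (F2_cases _).resolve_left fun e0 => by
    refine hv (qf_nondeg.1 u fun y => ?_)
    show bf u y = 0
    rw [e0] at hbq
    have hf : ∀ t ∈ S, bf u t = 0 := fun t ht => by
      obtain ⟨c, d, rfl⟩ := hspan t ht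
      rw [bf_add_right, bf_smul_right, bf_smul_right, bf_self, hbq, mul_zero, mul_zero, add_zero]
    set f := y + g.1 y + g.1 (g.1 y) with hfd
    have hgf : g.1 f = f := by
      rw [hfd, map_add, map_add, h3]
      abel
    have hy : y = f + g.1 (y + g.1 y) := by
      rw [hfd, map_add]
      generalize g.1 y = p
      generalize g.1 p = q
      calc y = y + (p + p) + (q + q) := by simp only [V_add_self, add_zero]
        _ = y + p + q + (p + q) := by abel
    have hfu : bf u f = 0 := by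
      rw [← hu, bf_add_left]
      have e := bf_map g v f
      rw [hgf] at e
      rw [e, F2_add_self]
    rw [hy, bf_add_right, hfu, zero_add]
    exact hf _ (by rw [map_add]; exact hS (g.1 y))
  rw [hqu] at hbq hq1
  refine ⟨u, u', hu', hsum, hqu, hq1, hbq, eq_rt hu' hsum hbq fun x => ?_, hspan⟩
  obtain ⟨c, d, e⟩ := hspan _ (hS x)
  exact ⟨c, d, by rw [add_assoc, ← e, add_cancel_self]⟩

theorem rt_fix {u u' : V} (hb : bf u u' = 1) {y : V} (h : rt u u' y = y) : bf y u = 0 ∧ bf y u' = 0 := by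
  have e : bf y (u + u') • u + bf y u' • u' = 0 := by
    rw [rt, add_assoc] at h
    exact add_eq_left.mp h
  have e1 := congrArg (fun t => bf t u') e
  have e2 := congrArg (fun t => bf t u) e
  simp only [bf_add_left, bf_smul_left, bf_self, bf_zero_left, hb, mul_zero, mul_one, add_zero, zero_add,
    bf_comm u' u] at e1 e2
  exact ⟨by rwa [bf_add_right, e2, add_zero] at e1, e2⟩

theorem frame_comb (p p' q q' : V) (a1 : qf p = 1) (a2 : qf p' = 1) (a3 : qf q = 1) (a4 : qf q' = 1) (b1 : bf p p' = 1)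
    (b2 : bf q q' = 1) (o1 : bf p q = 0) (o2 : bf p q' = 0) (o3 : bf p' q = 0) (o4 : bf p' q' = 0) (c : Fin 4 → F2) :
    qf (Fintype.linearCombination F2 ![p, p', q, q'] c) = c 0 + c 1 + c 0 * c 1 + (c 2 + c 3 + c 2 * c 3) ∧
      (Fintype.linearCombination F2 ![p, p', q, q'] c = 0 → c = 0) := by
  simp only [Fintype.linearCombination_apply, Fin.sum_univ_four, Matrix.cons_val_zero, Matrix.cons_val_one,
    Matrix.cons_val_two, Matrix.cons_val_three, Matrix.head_cons, Matrix.tail_cons]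
  refine ⟨?_, fun e => ?_⟩
  · simp only [qf_add, bf_add_left, bf_smul_left, bf_smul_right, qf_smul, a1, a2, a3, a4, b1, b2, o1, o2, o3, o4]
    ring
  · have e0 := congrArg (fun s => bf s p') e
    have e1 := congrArg (fun s => bf s p) e
    have e2 := congrArg (fun s => bf s q') e
    have e3 := congrArg (fun s => bf s q) e
    simp only [bf_add_left, bf_smul_left, bf_self, bf_zero_left, bf_comm p' p, bf_comm q' q, bf_comm q p,
      bf_comm q' p, bf_comm q p', bf_comm q' p', b1, b2, o1, o2, o3, o4, mul_zero, mul_one, add_zero,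
      zero_add] at e0 e1 e2 e3
    funext l
    fin_cases l <;> assumption

theorem pair_sum (f t u u' y : V) (c d : F2) :
    bf (f + (c • u + d • u') + t) y = bf f y + (c * bf u y + d * bf u' y) + bf t y := by
  rw [bf_add_left, bf_add_left, bf_add_left, bf_smul_left, bf_smul_left]

/-- Two commuting elements of order three acting as the rotations of the two planes. -/
structure X3 (z a b : G) (Q : Subgroup G) (π : G → V) (M : G → O8) : Prop where
  st : ST z Q π M
  az : a * z = z * a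
  bz : b * z = z * b
  a3 : a ^ 3 = 1
  b3 : b ^ 3 = 1
  a1 : a ≠ 1
  b1 : b ≠ 1
  ab : a * b = b * a
  Ma : ∀ x, (M a).1 x = rt T0 T1 x
  Mb : ∀ x, (M b).1 x = rt F0 F1 x

theorem rt_comb (h : ST z Q π M) {x : G} (hx : x * z = z * x) {u u' v : V}
    (e : (M x).1 u = u') (e' : (M x).1 u' = u + u') (c d : F2) (hv : v = c • u + d • u') :
    (M x).1 v = c • u' + d • (u + u') := by
  rw [hv, map_add, map_smul, map_smul, e, e']

/-- The normal form exists. -/
theorem exists_X3 (h : ST z Q π M) {a : G} (az : a * z = z * a) (a3 : a ^ 3 = 1) (a1 : a ≠ 1)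
    (hH : Nat.card ↥⁅Q, Subgroup.zpowers a⁆ = 8)
    (hna : ∃ u ∈ ⁅Q, Subgroup.zpowers a⁆, ∃ v ∈ ⁅Q, Subgroup.zpowers a⁆, u * v ≠ v * u)
    (Y : Subgroup G) (haY : a ∈ Y) (hY : Nat.card Y = 9) (hY3 : ∀ y ∈ Y, y ^ 3 = 1)
    (hYz : ∀ y ∈ Y, y * z = z * y)
    (hD : Nat.card ↥(Q ⊓ Subgroup.centralizer (Y : Set G)) = 32)
    (hnd : ∀ p ∈ Q ⊓ Subgroup.centralizer (Y : Set G),
      (∀ q ∈ Q ⊓ Subgroup.centralizer (Y : Set G), p * q = q * p) → p = 1 ∨ p = z) :
    ∃ b ∈ Y, ∃ (π' : G → V) (M' : G → O8), X3 z a b Q π' M' := by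
  classical
  -- the displacements of `a`
  set H := ⁅Q, Subgroup.zpowers a⁆ with hHdef
  have hHQ : H ≤ Q := Subgroup.commutator_le.mpr fun q hq c hc => by
    obtain ⟨n, rfl⟩ := Subgroup.mem_zpowers_iff.mp hc
    rw [commutatorElement_def, show q * a ^ n * q⁻¹ * (a ^ n)⁻¹ = q * (a ^ n * q⁻¹ * (a ^ n)⁻¹) by group]
    exact mul_mem hq (h.nor_mem (Commute.zpow_left az n) (inv_mem hq))
  obtain ⟨u₀, hu₀, w₀, hw₀, huw⟩ := hna
  have hzH : z ∈ H := by
    have e := (h.es.conj_cases (hHQ hu₀) (hHQ hw₀)).resolve_left fun e => huw (conj_fix_iff.mp e)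
    have h1 : u₀ * w₀ * u₀⁻¹ * w₀⁻¹ = z := by
      rw [e, h.es.comm w₀ (hHQ hw₀), mul_inv_cancel_right]
    rw [← h1]
    exact mul_mem (mul_mem (mul_mem hu₀ hw₀) (inv_mem hu₀)) (inv_mem hw₀)
  let φ : H →* Multiplicative V := MonoidHom.mk' (fun c => Multiplicative.ofAdd (π (c : G))) fun c d =>
    congrArg Multiplicative.ofAdd (h.π_mul _ (hHQ c.2) _ (hHQ d.2))
  set S : Set V := π '' (H : Set G) with hSdef
  have hScard : S.ncard ≤ 4 := by
    have hker : 2 ≤ Nat.card φ.ker := by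
      haveI : Nontrivial φ.ker := ⟨⟨⟨⟨z, hzH⟩, congrArg Multiplicative.ofAdd h.π_z⟩, 1, fun e =>
        h.es.ne (congrArg (fun c : φ.ker => ((c : H) : G)) e)⟩⟩
      exact Finite.one_lt_card
    have h1 := φ.ker.card_mul_index
    rw [Subgroup.index_ker, hH] at h1
    have hr : Nat.card φ.range ≤ 4 := by nlinarith
    have hle : S.ncard ≤ (φ.range : Set (Multiplicative V)).ncard :=
      Set.ncard_le_ncard_of_injOn Multiplicative.ofAdd (by rintro _ ⟨c, hc, rfl⟩; exact ⟨⟨c, hc⟩, rfl⟩)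
        Multiplicative.ofAdd.injective.injOn (Set.toFinite _)
    exact hle.trans hr
  have hS : ∀ x, x + (M a).1 x ∈ S := by
    intro v
    obtain ⟨q, hq, rfl⟩ := h.π_surj v
    refine ⟨⁅q, a⁆, Subgroup.commutator_mem_commutator hq (Subgroup.mem_zpowers a), ?_⟩
    rw [commutatorElement_def, show q * a * q⁻¹ * a⁻¹ = q * (a * q⁻¹ * a⁻¹) by group,
      h.π_mul q hq _ (h.nor_mem az (inv_mem hq)), h.M_act a az _ (inv_mem hq), h.π_inv hq]
  have hMa3 : M a ^ 3 = 1 := by rw [← M_pow h az, a3, h.M_one]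
  have hMa1 := M_ne_of_three h az a3 a1
  obtain ⟨u, u', ea, ea', qu, qu', buu, hMa, hspan⟩ := plane_of_three hMa3 hMa1 S hS ⟨1, one_mem _, h.π_one⟩
    (by rintro _ ⟨c, hc, rfl⟩ _ ⟨d, hd, rfl⟩; exact ⟨c * d, mul_mem hc hd, h.π_mul _ (hHQ hc) _ (hHQ hd)⟩) hScard
  -- the second element
  have hYc : ∀ p ∈ Y, ∀ q ∈ Y, p * q = q * p := by
    intro p hp q hq
    haveI : Fact (Nat.Prime 3) := ⟨Nat.prime_three⟩
    letI := IsPGroup.commGroupOfCardEqPrimeSq (G := Y) (p := 3) (by rw [hY]; norm_num)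
    exact congrArg Subtype.val (mul_comm (⟨p, hp⟩ : Y) ⟨q, hq⟩)
  obtain ⟨b0, hb0, hb0a⟩ : ∃ b0 ∈ Y, b0 ∉ Subgroup.zpowers a := by
    by_contra hall
    push Not at hall
    have hle := Subgroup.card_le_of_le hall
    rw [hY, Nat.card_zpowers] at hle
    have := Nat.le_of_dvd (by norm_num) (orderOf_dvd_of_pow_eq_one a3)
    omega
  have hb0z := hYz _ hb0
  have hcomm : ∀ x, (M b0).1 ((M a).1 x) = (M a).1 ((M b0).1 x) := fun x => by
    have e : M b0 * M a = M a * M b0 := by
      rw [← h.M_mul _ _ hb0z az, ← h.M_mul _ _ az hb0z, hYc _ hb0 _ haY]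
    exact LinearEquiv.congr_fun (congrArg Subtype.val e) x
  obtain ⟨i, hi⟩ : ∃ i : ℕ, (M (b0 * a ^ i)).1 u = u := by
    have hMu : ∀ i : ℕ, (M (b0 * a ^ i)).1 u = (M b0).1 ((M a ^ i).1 u) := fun i => by
      rw [h.M_mul _ _ hb0z (Commute.pow_left az i), M_pow h az]; rfl
    obtain ⟨c, d, e⟩ : ∃ c d : F2, (M b0).1 u = c • u + d • u' := by
      obtain ⟨s, e⟩ : ∃ s, s + (M a).1 s = u := by
        refine ⟨(M a).1 u, ?_⟩
        rw [ea, ea', add_comm u u', add_cancel_self]
      rw [← e, map_add, hcomm]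
      exact e ▸ hspan _ (hS _)
    have hq : qf (c • u + d • u') = 1 := by rw [← e, ← qu]; exact (M b0).2 u
    rcases F2_cases c with rfl | rfl <;> rcases F2_cases d with rfl | rfl <;>
      simp only [zero_smul, one_smul, zero_add, add_zero] at e hq
    · rw [qf_zero] at hq; exact absurd hq zero_ne_one
    · refine ⟨2, ?_⟩
      rw [hMu, pow_two]
      show (M b0).1 ((M a).1 ((M a).1 u)) = u
      rw [hcomm, hcomm, e, ea', map_add, ea, ea', add_comm u u', add_cancel_self]
    · exact ⟨0, by rw [hMu, pow_zero]; exact e⟩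
    · refine ⟨1, ?_⟩
      rw [hMu, pow_one, hcomm, e, map_add, ea, ea', add_comm u u', add_cancel_self]
  obtain ⟨b, hbdef⟩ : ∃ b, b0 * a ^ i = b := ⟨_, rfl⟩
  rw [hbdef] at hi
  have hbY : b ∈ Y := hbdef ▸ mul_mem hb0 (pow_mem haY i)
  have hbz := hYz _ hbY
  have hb1 : b ≠ 1 := fun e => hb0a (by
    rw [← hbdef, mul_eq_one_iff_eq_inv] at e
    rw [e]; exact inv_mem (pow_mem (Subgroup.mem_zpowers a) i))
  have hMb3 : M b ^ 3 = 1 := by rw [← M_pow h hbz, hY3 b hbY, h.M_one]
  have hMb1 := M_ne_of_three h hbz (hY3 b hbY) hb1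
  have hbu' : (M b).1 u' = u' := by
    have e : M b * M a = M a * M b := by
      rw [← h.M_mul _ _ hbz az, ← h.M_mul _ _ az hbz, hYc _ hbY _ haY]
    rw [← ea]
    exact (LinearEquiv.congr_fun (congrArg Subtype.val e) u).trans (congrArg (M a).1 hi)
  -- the fixed vectors
  set D := Q ⊓ Subgroup.centralizer (Y : Set G) with hDdef
  set F : Set V := π '' (D : Set G) with hFdef
  have hDc : ∀ p ∈ D, ∀ y ∈ Y, y * p = p * y := fun p hp y hy => Subgroup.mem_centralizer_iff.mp hp.2 y hy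
  have hFfix : ∀ f ∈ F, ∀ y ∈ Y, (M y).1 f = f := by
    rintro _ ⟨p, hp, rfl⟩ y hy
    exact fix_of_comm h (hYz y hy) hp.1 (hDc p hp y hy)
  have hFadd : ∀ x ∈ F, ∀ y ∈ F, x + y ∈ F := by
    rintro _ ⟨c, hc, rfl⟩ _ ⟨d, hd, rfl⟩
    exact ⟨c * d, mul_mem hc hd, h.π_mul _ hc.1 _ hd.1⟩
  have hFnd : ∀ f ∈ F, (∀ f' ∈ F, bf f f' = 0) → f = 0 := by
    rintro _ ⟨p, hp, rfl⟩ hall
    rcases hnd p hp (fun q hq => (h.comm p hp.1 q hq.1).mpr (hall _ ⟨q, hq, rfl⟩)) with rfl | rfl
    exacts [h.π_one, h.π_z]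
  have hF16 : 16 ≤ F.ncard := by
    have hsub : (D : Set G) ⊆ (fun w : V × Bool => Function.invFunOn π (D : Set G) w.1 * if w.2 then z else 1) ''
        (F ×ˢ Set.univ) := by
      intro p hp
      have hF' : π p ∈ F := ⟨p, hp, rfl⟩
      have h1 := Function.invFunOn_mem (f := π) (s := (D : Set G)) hF'
      have h2 := Function.invFunOn_eq (f := π) (s := (D : Set G)) hF'
      rcases h.π_eq h1.1 hp.1 h2 with e | e
      · exact ⟨(π p, false), ⟨hF', trivial⟩, by simp [← e]⟩
      · exact ⟨(π p, true), ⟨hF', trivial⟩, by simp [← e]⟩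
    have h1 := (Set.ncard_le_ncard hsub (Set.toFinite _)).trans (Set.ncard_image_le (Set.toFinite _))
    rw [Set.ncard_prod, Set.ncard_univ, Nat.card_eq_fintype_card, Fintype.card_bool] at h1
    have : (D : Set G).ncard = 32 := hD
    omega
  have hFu : ∀ f ∈ F, bf f u = 0 ∧ bf f u' = 0 := fun f hf =>
    rt_fix buu (by rw [← hMa]; exact hFfix f hf a haY)
  set T : Set V := {y | (∀ f ∈ F, bf y f = 0) ∧ bf y u = 0 ∧ bf y u' = 0} with hTdef
  have hTS : ∀ x, x + (M b).1 x ∈ T := by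
    intro x
    have key : ∀ y, (M b).1 y = y → bf (x + (M b).1 x) y = 0 := fun y hy => by
      rw [bf_add_left]
      nth_rewrite 2 [← hy]
      rw [bf_map, F2_add_self]
    exact ⟨fun f hf => key f (hFfix f hf b hbY), key u hi, key u' hbu'⟩
  have hTadd : ∀ x ∈ T, ∀ y ∈ T, x + y ∈ T := fun x hx y hy =>
    ⟨fun f hf => by rw [bf_add_left, hx.1 f hf, hy.1 f hf, add_zero],
      by rw [bf_add_left, hx.2.1, hy.2.1, add_zero], by rw [bf_add_left, hx.2.2, hy.2.2, add_zero]⟩
  have hT4 : T.ncard ≤ 4 := by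
    have hinj : Set.InjOn (fun t : V × (F2 × F2) × V => t.1 + (t.2.1.1 • u + t.2.1.2 • u') + t.2.2)
        (F ×ˢ (Set.univ ×ˢ T)) := by
      rintro ⟨f, ⟨c, d⟩, t⟩ ⟨hf, -, ht⟩ ⟨f', ⟨c', d'⟩, t'⟩ ⟨hf', -, ht'⟩ e
      simp only at e
      have hz : (f + f') + ((c + c') • u + (d + d') • u') + (t + t') = 0 := by
        calc (f + f') + ((c + c') • u + (d + d') • u') + (t + t')
            = (f + (c • u + d • u') + t) + (f' + (c' • u + d' • u') + t') := by simp only [add_smul]; abel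
          _ = 0 := by rw [e, V_add_self]
      have hff := hFadd f hf f' hf'
      have htt := hTadd t ht t' ht'
      have p0 : f + f' = 0 := hFnd _ hff fun y hy => by
        have := congrArg (fun s => bf s y) hz
        simpa only [pair_sum, bf_comm u y, bf_comm u' y, (hFu y hy).1, (hFu y hy).2, htt.1 y hy, bf_zero_left,
          mul_zero, add_zero] using this
      have p1 : d + d' = 0 := by
        have := congrArg (fun s => bf s u) hz
        simpa only [pair_sum, bf_self, bf_comm u' u, buu, (hFu _ hff).1, htt.2.1, bf_zero_left, mul_zero, mul_one,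
          add_zero, zero_add] using this
      have p2 : c + c' = 0 := by
        have := congrArg (fun s => bf s u') hz
        simpa only [pair_sum, bf_self, buu, (hFu _ hff).2, htt.2.2, bf_zero_left, mul_zero, mul_one, add_zero,
          zero_add] using this
      have ec : c = c' := F2_eq_of c c' p2
      have ed : d = d' := F2_eq_of d d' p1
      have ef := eq_of_add_zero p0
      subst ec ed ef
      rw [add_left_cancel e]
    have h1 := Set.ncard_le_ncard_of_injOn (t := (Set.univ : Set V)) _ (fun _ _ => trivial) hinj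
    rw [Set.ncard_prod, Set.ncard_prod, Set.ncard_univ, Set.ncard_univ, card_V, Nat.card_eq_fintype_card,
      Fintype.card_prod, ZMod.card] at h1
    nlinarith
  obtain ⟨w, w', eb, eb', qw, qw', bww, hMb, hspan'⟩ := plane_of_three hMb3 hMb1 T hTS
    ⟨fun f _ => bf_zero_left f, bf_zero_left u, bf_zero_left u'⟩ hTadd hT4
  have hperp : bf u w = 0 ∧ bf u w' = 0 ∧ bf u' w = 0 ∧ bf u' w' = 0 := by
    obtain ⟨hu1, hu2⟩ := rt_fix bww (show rt w w' u = u by rw [← hMb]; exact hi)
    obtain ⟨hu3, hu4⟩ := rt_fix bww (show rt w w' u' = u' by rw [← hMb]; exact hbu')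
    exact ⟨hu1, hu2, hu3, hu4⟩
  -- the change of coordinates
  obtain ⟨t1, t2, -, t4, t5, t6, t7, t8, t9, t10, t11⟩ := plane_facts
  have cs := frame_comb u u' w w' qu qu' qw qw' buu bww hperp.1 hperp.2.1 hperp.2.2.1 hperp.2.2.2
  have ct := frame_comb T0 T1 F0 F1 t1 t2 t4 t5 t6 t7 t8 t9 t10 t11
  obtain ⟨g, hg⟩ := move ![u, u', w, w'] ![T0, T1, F0, F1] (fun c e => (cs c).2 e) (fun c e => (ct c).2 e)
    fun c => (cs c).1.trans (ct c).1.symm
  have g0 : g.1 u = T0 := hg 0
  have g1 : g.1 u' = T1 := hg 1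
  have g2 : g.1 w = F0 := hg 2
  have g3 : g.1 w' = F1 := hg 3
  refine ⟨b, hbY, fun c => g.1 (π c), fun c => g * M c * g⁻¹, CfsgLib.ConwayType.ST.twist h g, az, hbz, a3,
    hY3 b hbY, a1, hb1, hYc _ haY _ hbY, fun x => ?_, fun x => ?_⟩
  · show g.1 ((M a).1 (g.1.symm x)) = _
    rw [hMa, rt_map, g0, g1, LinearEquiv.apply_symm_apply]
  · show g.1 ((M b).1 (g.1.symm x)) = _
    rw [hMb, rt_map, g2, g3, LinearEquiv.apply_symm_apply]

end CfsgLib.ConwayType.ThreeX
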