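import Cfsg.Agent.Lib.ConwayType.ThreeX.Main

/-!
Groups of Conway type: the element of order three, in the terms of the statement.
-/

set_option autoImplicit false
set_option linter.unusedSectionVars false
set_option maxRecDepth 20000
set_option maxHeartbeats 800000
set_option synthInstance.maxSize 2048

universe u

namespace CfsgLib.ConwayType.ThreeX

open Cfsg CfsgLib.ConwayType
open CfsgLib.HallJankoType (mem_cent conj_fix_iff)

variable {G : Type u} [Group G] [Finite G]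

theorem statement (z : G) (hz : orderOf z = 2) (Q : Subgroup (Subgroup.centralizer ({z} : Set G))) [Q.Normal]
    (hF : Cfsg.generalizedFittingSubgroup (Subgroup.centralizer ({z} : Set G)) = Q) (hQ : Cfsg.IsExtraspecial 2 Q)
    (hcard : Nat.card Q = 2 ^ 9)
    (e : (Subgroup.centralizer ({z} : Set G)) ⧸ Q ≃* Cfsg.Omega (ZMod 2) (Cfsg.quadFormPlus 4 (ZMod 2)))
    (hnwc : ∃ g : G, (∃ hq : g * z * g⁻¹ ∈ Subgroup.centralizer ({z} : Set G),
      (⟨g * z * g⁻¹, hq⟩ : Subgroup.centralizer ({z} : Set G)) ∈ Q) ∧ g * z * g⁻¹ ≠ z)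
    (X : Subgroup (Subgroup.centralizer ({z} : Set G))) (hX : Nat.card X = 3) (hQX : Nat.card ↥⁅Q, X⁆ = 8)
    (hQXna : ¬ IsMulCommutative ↥⁅Q, X⁆)
    (Y₉ : Subgroup (Subgroup.centralizer ({z} : Set G))) (hXY : X ≤ Y₉) (hY₉ : Nat.card Y₉ = 9)
    (hY₉e : ∀ y ∈ Y₉, y ^ 3 = 1)
    (hCQ₉ : Cfsg.IsExtraspecial 2 ↥(Q ⊓ Subgroup.centralizer (Y₉ : Set (Subgroup.centralizer ({z} : Set G)))))
    (hCQ₉c : Nat.card ↥(Q ⊓ Subgroup.centralizer (Y₉ : Set (Subgroup.centralizer ({z} : Set G)))) = 32)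
    [((X.map (Subgroup.subtype (Subgroup.centralizer ({z} : Set G)))).subgroupOf
      (Subgroup.centralizer ((X.map (Subgroup.subtype (Subgroup.centralizer ({z} : Set G)))) : Set G))).Normal]
    (K : Type) [Field K] [Fintype K] (hK : Fintype.card K = 9) (hrec : SuzType.ThreeY.Recog.{u} K) :
    Cfsg.IsQuasisimple ↥(Subgroup.centralizer ((X.map (Subgroup.subtype (Subgroup.centralizer ({z} : Set G)))) : Set G)) ∧
      Cfsg.Spor.IsoSuz (↥(Subgroup.centralizer ((X.map (Subgroup.subtype (Subgroup.centralizer ({z} : Set G)))) : Set G)) ⧸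
        (X.map (Subgroup.subtype (Subgroup.centralizer ({z} : Set G)))).subgroupOf
          (Subgroup.centralizer ((X.map (Subgroup.subtype (Subgroup.centralizer ({z} : Set G)))) : Set G))) := by
  classical
  obtain ⟨π₀, M₀, h⟩ := exists_ST z hz Q hF hQ hcard e hnwc
  haveI : Fact (Nat.Prime 3) := ⟨Nat.prime_three⟩
  obtain ⟨aX, haX⟩ := exists_prime_orderOf_dvd_card' (G := X) 3 (by rw [hX])
  obtain ⟨a, hadef⟩ : ∃ a : G, ((aX : Subgroup.centralizer ({z} : Set G)) : G) = a := ⟨_, rfl⟩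
  have hgen : X = Subgroup.zpowers (aX : Subgroup.centralizer ({z} : Set G)) :=
    (Subgroup.eq_of_le_of_card_ge (Subgroup.zpowers_le.mpr aX.2)
      (by rw [hX, Nat.card_zpowers, Subgroup.orderOf_coe, haX])).symm
  have hX' : X.map (Subgroup.subtype (Subgroup.centralizer ({z} : Set G))) = Subgroup.zpowers a := by
    rw [hgen, MonoidHom.map_zpowers, ← hadef]; rfl
  have ha3' : orderOf a = 3 := by rw [← hadef, Subgroup.orderOf_coe, Subgroup.orderOf_coe, haX]
  have ha3 : a ^ 3 = 1 := ha3' ▸ pow_orderOf_eq_one a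
  have ha1 : a ≠ 1 := fun e1 => by rw [e1, orderOf_one] at ha3'; omega
  have haz : a * z = z * a := by rw [← hadef]; exact mem_cent.mp (aX : Subgroup.centralizer ({z} : Set G)).2
  set ι := Subgroup.subtype (Subgroup.centralizer ({z} : Set G)) with hι
  have hinj : Function.Injective ι := Subgroup.subtype_injective _
  set Q' := Q.map ι with hQ'
  have hcm : ⁅Q', Subgroup.zpowers a⁆ = (⁅Q, X⁆).map ι := by rw [Subgroup.map_commutator, hX']
  set Y := Y₉.map ι with hY
  have hYz : ∀ y ∈ Y, y * z = z * y := by rintro _ ⟨c, -, rfl⟩; exact mem_cent.mp c.2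
  have hY3 : ∀ y ∈ Y, y ^ 3 = 1 := by
    rintro _ ⟨c, hc, rfl⟩
    exact congrArg Subtype.val (hY₉e c hc)
  set D := Q ⊓ Subgroup.centralizer (Y₉ : Set (Subgroup.centralizer ({z} : Set G))) with hD
  have hDmap : D.map ι = Q' ⊓ Subgroup.centralizer (Y : Set G) := by
    refine le_antisymm ?_ ?_
    · rintro _ ⟨c, hc, rfl⟩
      refine ⟨⟨c, hc.1, rfl⟩, Subgroup.mem_centralizer_iff.mpr ?_⟩
      rintro _ ⟨y, hy, rfl⟩
      rw [← map_mul, ← map_mul, Subgroup.mem_centralizer_iff.mp hc.2 y hy]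
    · rintro _ ⟨⟨c, hc, rfl⟩, h2⟩
      exact ⟨c, ⟨hc, Subgroup.mem_centralizer_iff.mpr fun y hy => hinj (by
        rw [map_mul, map_mul]; exact Subgroup.mem_centralizer_iff.mp h2 _ ⟨y, hy, rfl⟩)⟩, rfl⟩
  have hzD : (⟨z, mem_cent.mpr rfl⟩ : Subgroup.centralizer ({z} : Set G)) ∈ D := by
    have hzQ : z ∈ Q' := h.es.mem
    have hm : z ∈ Q' ⊓ Subgroup.centralizer (Y : Set G) :=
      ⟨hzQ, Subgroup.mem_centralizer_iff.mpr fun y hy => hYz y hy⟩
    rw [← hDmap] at hm
    obtain ⟨c, hc, e1⟩ := hm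
    rwa [show (⟨z, mem_cent.mpr rfl⟩ : Subgroup.centralizer ({z} : Set G)) = c from Subtype.ext e1.symm]
  obtain ⟨b, hbY, π, M, T⟩ := exists_X3 h haz ha3 ha1
    (by rw [hcm, Subgroup.card_map_of_injective hinj, hQX])
    (by
      by_contra hall
      push Not at hall
      refine hQXna ⟨⟨fun c d => ?_⟩⟩
      refine Subtype.ext (Subtype.ext ?_)
      exact hall _ (by rw [hcm]; exact ⟨_, c.2, rfl⟩) _ (by rw [hcm]; exact ⟨_, d.2, rfl⟩))
    Y ⟨_, hXY aX.2, hadef⟩ (by rw [hY, Subgroup.card_map_of_injective hinj, hY₉]) hY3 hYz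
    (by rw [← hDmap, Subgroup.card_map_of_injective hinj, hCQ₉c])
    (by
      intro p hp hall
      rw [← hDmap] at hp
      obtain ⟨c, hc, rfl⟩ := hp
      obtain ⟨w, hw⟩ := CfsgLib.ExtraTwo.ofExtraspecial hCQ₉
      let zD : ↥D := ⟨_, hzD⟩
      have hzc : zD ∈ Subgroup.center ↥D := Subgroup.mem_center_iff.mpr fun k => Subtype.ext (Subtype.ext
        (mem_cent.mp (k : Subgroup.centralizer ({z} : Set G)).2))
      have hcc : (⟨c, hc⟩ : ↥D) ∈ Subgroup.center ↥D := Subgroup.mem_center_iff.mpr fun k => Subtype.ext (Subtype.ext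
        (hall _ (hDmap ▸ ⟨_, k.2, rfl⟩)).symm)
      have hzw : zD = w := ((hw.center_iff _).mp hzc).resolve_left fun e1 => h.es.ne
        (congrArg (fun k : ↥D => ((k : Subgroup.centralizer ({z} : Set G)) : G)) e1)
      rcases (hw.center_iff _).mp hcc with e1 | e1
      · exact Or.inl (congrArg (fun k : ↥D => ((k : Subgroup.centralizer ({z} : Set G)) : G)) e1)
      · exact Or.inr (congrArg (fun k : ↥D => ((k : Subgroup.centralizer ({z} : Set G)) : G)) (e1.trans hzw.symm)))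
  set X' := X.map ι with hX'def
  set C := Subgroup.centralizer ((X' : Subgroup G) : Set G) with hCdef
  have hmemC : ∀ g, g ∈ C ↔ g * a = a * g := by
    intro g
    rw [hCdef, Subgroup.mem_centralizer_iff]
    refine ⟨fun h' => (h' a (by rw [SetLike.mem_coe, hX']; exact Subgroup.mem_zpowers a)).symm, fun h' k hk => ?_⟩
    rw [SetLike.mem_coe, hX'] at hk
    obtain ⟨n, rfl⟩ := Subgroup.mem_zpowers_iff.mp hk
    exact (Commute.zpow_right (h' : Commute g a) n).eq.symm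
  set N := X'.subgroupOf C with hNdef
  have hN : ∀ g : C, g ∈ N ↔ ∃ i : ℕ, (g : G) = a ^ i := by
    intro g
    rw [hNdef, Subgroup.mem_subgroupOf, hX', ← mem_powers_iff_mem_zpowers, Submonoid.mem_powers_iff]
    exact ⟨fun ⟨i, h'⟩ => ⟨i, h'.symm⟩, fun ⟨i, h'⟩ => ⟨i, h'.symm⟩⟩
  let zC : C := ⟨z, (hmemC z).mpr haz.symm⟩
  have Pj : Proj z a C (QuotientGroup.mk' N) zC :=
    ⟨hmemC, QuotientGroup.mk'_surjective N, fun g => (QuotientGroup.eq_one_iff g).trans (hN g), rfl⟩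
  exact ⟨Pj.quasisimple T hK hrec, Pj.iso_suz T⟩

end CfsgLib.ConwayType.ThreeX
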